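import Mathlib

/-!
The rational equations from pairs of involutions: the unit shared by `D` and `A` has degree two and
is trivial on the first class of involutions.
-/

set_option autoImplicit false

namespace Cfsg.Agent.Lib.Higman4

/-- Degree and scaled values at the two involutions of a signed unit. -/
structure Datum where
  /-- Signed degree. -/
  X : ℚ
  /-- Signed value at the first class. -/
  U : ℚ
  /-- Signed value at the second class. -/
  V : ℚ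

/-- The opposite. -/
def Datum.neg (u : Datum) : Datum := ⟨-u.X, -u.U, -u.V⟩

/-- The equations attached to a vector with a value `c` at the trivial character and three units;
`R` is in units of `k`. -/
structure Eqs (k : ℚ) (o : Datum) (c : ℚ) (u₁ u₂ u₃ : Datum) (Raa Rab Rbb : ℚ) : Prop where
  sumX : c * o.X + (u₁.X + u₂.X + u₃.X) = 0
  sumU : c * o.U + (u₁.U + u₂.U + u₃.U) = 0
  sumV : c * o.V + (u₁.V + u₂.V + u₃.V) = 0
  aa : c * o.U ^ 2 / o.X + (u₁.U ^ 2 / u₁.X + u₂.U ^ 2 / u₂.X + u₃.U ^ 2 / u₃.X) = k * Raa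
  ab : c * (o.U * o.V) / o.X +
    (u₁.U * u₁.V / u₁.X + u₂.U * u₂.V / u₂.X + u₃.U * u₃.V / u₃.X) = k * Rab
  bb : c * o.V ^ 2 / o.X + (u₁.V ^ 2 / u₁.X + u₂.V ^ 2 / u₂.X + u₃.V ^ 2 / u₃.X) = k * Rbb

/-- The sums attached to a vector with two units. -/
structure Eqs2 (u₁ u₂ : Datum) : Prop where
  sumX : u₁.X + u₂.X = 0
  sumU : u₁.U + u₂.U = 0
  sumV : u₁.V + u₂.V = 0

/-- Three weighted points: the edge identities. -/
theorem three_point {b z M e₁ e₂ f₁ f₂ Raa Rab Rbb : ℚ} (hM : M = 1 + b + z) (hM0 : M ≠ 0)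
    (haa : M * Raa = (b + z) * f₁ * f₁ - z * (e₁ * f₁ + f₁ * e₁) + z * (b + 1) * e₁ * e₁)
    (hab : M * Rab = (b + z) * f₁ * f₂ - z * (e₁ * f₂ + f₁ * e₂) + z * (b + 1) * e₁ * e₂)
    (hbb : M * Rbb = (b + z) * f₂ * f₂ - z * (e₂ * f₂ + f₂ * e₂) + z * (b + 1) * e₂ * e₂) :
    (Rbb * e₁ * e₁ - 2 * Rab * e₁ * e₂ + Raa * e₂ * e₂) * (b * z) =
        (b + z) * (Raa * Rbb - Rab ^ 2) ∧
      (Rbb * e₁ * f₁ - Rab * (e₁ * f₂ + e₂ * f₁) + Raa * e₂ * f₂) * b = Raa * Rbb - Rab ^ 2 ∧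
      (Rbb * f₁ * f₁ - 2 * Rab * f₁ * f₂ + Raa * f₂ * f₂) * b =
        (b + 1) * (Raa * Rbb - Rab ^ 2) := by
  have e1 : Raa = ((b + z) * f₁ * f₁ - z * (e₁ * f₁ + f₁ * e₁) + z * (b + 1) * e₁ * e₁) / M := by
    rw [eq_div_iff hM0, mul_comm]; exact haa
  have e2 : Rab = ((b + z) * f₁ * f₂ - z * (e₁ * f₂ + f₁ * e₂) + z * (b + 1) * e₁ * e₂) / M := by
    rw [eq_div_iff hM0, mul_comm]; exact hab
  have e3 : Rbb = ((b + z) * f₂ * f₂ - z * (e₂ * f₂ + f₂ * e₂) + z * (b + 1) * e₂ * e₂) / M := by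
    rw [eq_div_iff hM0, mul_comm]; exact hbb
  subst e1 e2 e3 hM
  refine ⟨?_, ?_, ?_⟩ <;> field_simp <;> ring

/-- The situation common to the vectors `C`, `D`, `A`. -/
structure Base (k : ℚ) (o a b t ψ w r : Datum) : Prop where
  pos : 0 < k
  o_X : o.X = 1
  a_ne : a.X ≠ 0
  b_ne : b.X ≠ 0
  t_ne : t.X ≠ 0
  ψ_ne : ψ.X ≠ 0
  w_ne : w.X ≠ 0
  r_ne : r.X ≠ 0
  C : Eqs k o 0 a b t.neg 0 0 (2 / 3)
  D : Eqs k o 0 t ψ w.neg (8 / 3) 0 0
  A : Eqs k o 1 b ψ r (8 / 3) (4 / 3) (4 / 3)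

/-- What the equations for `C`, `D`, `A` give, in coordinates centred at `b`. -/
structure Coords (o a b t ψ w r : Datum) (k g f₁ f₂ : ℚ) : Prop where
  t_X : t.X = a.X + b.X
  w_X : w.X = t.X + ψ.X
  r_X : r.X = -(1 + b.X + ψ.X)
  g_ne : g ≠ 0
  k_eq : 2 * a.X * k = 3 * b.X * t.X * g ^ 2
  rel : 4 * a.X * ψ.X = b.X * (t.X + ψ.X)
  b_at : ∀ u : ℚ, u = b.U / b.X → a.U = a.X * u ∧ t.U = t.X * u ∧ ψ.U = ψ.X * (u + 4 * g) ∧
    w.U = w.X * u + ψ.X * (4 * g) ∧ o.U = u + f₁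
  b_bt : ∀ v : ℚ, v = b.V / b.X → a.V = a.X * v + t.X * g ∧ t.V = t.X * (v + g) ∧
    ψ.V = ψ.X * (v + g) ∧ w.V = w.X * (v + g) ∧ o.V = v + f₂
  cross : 3 * f₁ - 2 * f₂ = 2 * g * t.X / a.X
  norm : (f₁ ^ 2 - 2 * f₁ * f₂ + 2 * f₂ ^ 2) * a.X = 2 * t.X * (b.X + 1) * g ^ 2
  aa : (1 + b.X + ψ.X) * (8 / 3 * k) = (b.X + ψ.X) * f₁ * f₁ - ψ.X * (4 * g * f₁ + f₁ * (4 * g))
    + ψ.X * (b.X + 1) * (4 * g) * (4 * g)
  ab : (1 + b.X + ψ.X) * (4 / 3 * k) = (b.X + ψ.X) * f₁ * f₂ - ψ.X * (4 * g * f₂ + f₁ * g)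
    + ψ.X * (b.X + 1) * (4 * g) * g

variable {k : ℚ} {o a b t ψ w r : Datum}

theorem Base.coords (h : Base k o a b t ψ w r) : ∃ g f₁ f₂, Coords o a b t ψ w r k g f₁ f₂ := by
  obtain ⟨cX, cU, cV, caa, -, cbb⟩ := h.C
  obtain ⟨dX, dU, dV, daa, dab, dbb⟩ := h.D
  obtain ⟨aX, aU, aV, Aaa, Aab, Abb⟩ := h.A
  simp only [Datum.neg, zero_mul, zero_div, zero_add, one_mul, h.o_X, div_one, neg_sq, div_neg,
    mul_zero] at cX cU cV caa cbb dX dU dV daa dab dbb aX aU aV Aaa Aab Abb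
  have ha := h.a_ne
  have hb := h.b_ne
  have ht := h.t_ne
  have hz := h.ψ_ne
  have hw := h.w_ne
  have hr := h.r_ne
  have hk := h.pos
  have tX : t.X = a.X + b.X := by linarith
  have wX : w.X = t.X + ψ.X := by linarith
  have rX : r.X = -(1 + b.X + ψ.X) := by linarith
  have tU : t.U = a.U + b.U := by linarith
  have tV : t.V = a.V + b.V := by linarith
  -- `C`
  have haU : a.U * b.X = b.U * a.X := by
    rw [tU, tX] at caa
    have : (a.U * b.X - b.U * a.X) ^ 2 = 0 := by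
      have ht' : a.X + b.X ≠ 0 := tX ▸ ht
      field_simp at caa
      linear_combination caa
    exact sub_eq_zero.1 (pow_eq_zero_iff two_ne_zero |>.1 this)
  obtain ⟨u, hu⟩ : ∃ u, u = b.U / b.X := ⟨_, rfl⟩
  obtain ⟨v, hv⟩ : ∃ v, v = b.V / b.X := ⟨_, rfl⟩
  have bU : b.U = b.X * u := by rw [hu]; field_simp
  have bV : b.V = b.X * v := by rw [hv]; field_simp
  have aU' : a.U = a.X * u := by rw [hu]; field_simp; linear_combination haU
  have tU' : t.U = t.X * u := by rw [tU, tX, aU', bU]; ring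
  obtain ⟨g, hg⟩ : ∃ g, g = (a.V - a.X * v) / t.X := ⟨_, rfl⟩
  have aV' : a.V = a.X * v + t.X * g := by rw [hg]; field_simp; ring
  have tV' : t.V = t.X * (v + g) := by rw [tV, aV', bV, tX]; ring
  have hg2 : 2 * a.X * k = 3 * b.X * t.X * g ^ 2 := by
    rw [aV', bV, tV'] at cbb
    field_simp at cbb
    rw [tX] at cbb ⊢
    have ht' : a.X + b.X ≠ 0 := tX ▸ ht
    linear_combination -cbb
  -- `D`
  obtain ⟨Q, hQ⟩ : ∃ Q, Q = ψ.U / ψ.X - u := ⟨_, rfl⟩
  have ψU : ψ.U = ψ.X * (u + Q) := by rw [hQ]; field_simp; ring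
  obtain ⟨R, hR⟩ : ∃ R, R = ψ.V / ψ.X - (v + g) := ⟨_, rfl⟩
  have ψV : ψ.V = ψ.X * (v + g + R) := by rw [hR]; field_simp; ring
  have wU : w.U = t.U + ψ.U := by linarith
  have wV : w.V = t.V + ψ.V := by linarith
  rw [wU, wX, tU', ψU] at daa
  rw [wU, wV, wX, tU', ψU, tV', ψV] at dab
  rw [wV, wX, tV', ψV] at dbb
  have hW : t.X + ψ.X ≠ 0 := wX ▸ hw
  field_simp at daa dab dbb
  have hQ2 : 3 * t.X * ψ.X * Q ^ 2 = 8 * k * (t.X + ψ.X) := by linear_combination daa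
  have hR0 : R = 0 := by
    have : t.X * ψ.X * R ^ 2 = 0 := by linear_combination dbb
    simpa [ht, hz] using this
  rw [hR0, add_zero] at ψV
  -- `A`
  obtain ⟨f₁, hf1⟩ : ∃ f, f = o.U - u := ⟨_, rfl⟩
  obtain ⟨f₂, hf2⟩ : ∃ f, f = o.V - v := ⟨_, rfl⟩
  have oU : o.U = u + f₁ := by rw [hf1]; ring
  have oV : o.V = v + f₂ := by rw [hf2]; ring
  have rU : r.U = -(o.U + b.U + ψ.U) := by linarith
  have rV : r.V = -(o.V + b.V + ψ.V) := by linarith
  have hM : (1 + b.X + ψ.X) ≠ 0 := fun e => hr (by rw [rX, e, neg_zero])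
  rw [rU, rX, oU, bU, ψU] at Aaa
  rw [rU, rV, rX, oU, oV, bU, bV, ψU, ψV] at Aab
  rw [rV, rX, oV, bV, ψV] at Abb
  field_simp at Aaa Aab Abb
  have haa : (1 + b.X + ψ.X) * (8 / 3 * k) = (b.X + ψ.X) * f₁ * f₁ - ψ.X * (Q * f₁ + f₁ * Q)
      + ψ.X * (b.X + 1) * Q * Q := by linear_combination (-1 / 3 : ℚ) * Aaa
  have hab : (1 + b.X + ψ.X) * (4 / 3 * k) = (b.X + ψ.X) * f₁ * f₂ - ψ.X * (Q * f₂ + f₁ * g)
      + ψ.X * (b.X + 1) * Q * g := by linear_combination (-1 / 3 : ℚ) * Aab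
  have hbb : (1 + b.X + ψ.X) * (4 / 3 * k) = (b.X + ψ.X) * f₂ * f₂ - ψ.X * (g * f₂ + f₂ * g)
      + ψ.X * (b.X + 1) * g * g := by linear_combination (-1 / 3 : ℚ) * Abb
  obtain ⟨p1, p2, p3⟩ := three_point rfl hM haa hab hbb
  have hk0 := hk.ne'
  have e1 : (Q ^ 2 - 2 * Q * g + 2 * g ^ 2) * (b.X * ψ.X) = 4 / 3 * k * (b.X + ψ.X) :=
    mul_left_cancel₀ (show (4 / 3 * k) ≠ 0 by positivity) (by linear_combination p1)
  have e2 : (Q * f₁ - Q * f₂ - g * f₁ + 2 * g * f₂) * b.X = 4 / 3 * k :=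
    mul_left_cancel₀ (show (4 / 3 * k) ≠ 0 by positivity) (by linear_combination p2)
  have e3 : (f₁ ^ 2 - 2 * f₁ * f₂ + 2 * f₂ ^ 2) * b.X = (b.X + 1) * (4 / 3 * k) :=
    mul_left_cancel₀ (show (4 / 3 * k) ≠ 0 by positivity) (by linear_combination p3)
  have hg0 : g ≠ 0 := by
    intro e
    rw [e] at hg2
    have : a.X * k = 0 := by linear_combination hg2 / 2
    simp [ha, hk0] at this
  have hQ4 : Q = 4 * g := by
    have hQ0 : Q ≠ 0 := by
      intro e
      rw [e] at hQ2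
      have : k * (t.X + ψ.X) = 0 := by linear_combination -hQ2 / 8
      simp [hW, hk0] at this
    refine sub_eq_zero.1 ((mul_eq_zero.1 (show Q * (Q - 4 * g) = 0 from ?_)).resolve_left hQ0)
    have key : 3 * (b.X * t.X * ψ.X) * (Q * (Q - 4 * g)) = 0 := by
      linear_combination (6 * t.X) * e1 - b.X * hQ2 + 4 * ψ.X * hg2 + 8 * k * ψ.X * tX
    simpa [hb, ht, hz] using key
  rw [hQ4] at hQ2 ψU haa hab e2
  have hII : 4 * a.X * ψ.X = b.X * (t.X + ψ.X) := by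
    apply mul_left_cancel₀ (show 4 * k ≠ 0 by positivity)
    linear_combination 8 * ψ.X * hg2 + (1 / 2 : ℚ) * b.X * hQ2
  refine ⟨g, f₁, f₂, tX, wX, rX, hg0, hg2, hII, fun u' hu' => ?_, fun v' hv' => ?_, ?_, ?_,
    haa, hab⟩
  · obtain rfl : u' = u := hu'.trans hu.symm; exact ⟨aU', tU', ψU, by rw [wU, tU', ψU, wX]; ring, oU⟩
  · obtain rfl : v' = v := hv'.trans hv.symm; exact ⟨aV', tV', ψV, by rw [wV, tV', ψV, wX]; ring, oV⟩
  · rw [eq_div_iff ha]
    apply mul_left_cancel₀ (mul_ne_zero hb hg0)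
    linear_combination a.X * e2 + (2 / 3 : ℚ) * hg2
  · apply mul_left_cancel₀ hb
    linear_combination a.X * e3 + (2 / 3 : ℚ) * (b.X + 1) * hg2

/-- The five possibilities. -/
inductive Shapes (k : ℚ) (o a b t ψ w r : Datum) : Prop where
  | generic (e : Datum) (h : Eqs k o 1 a w e (4 / 3) (2 / 3) 1) (he : e.X ≠ 0)
  | four (h : Eqs k o 1 a ψ.neg r (4 / 3) (2 / 3) 1)
  | three (h : Eqs k o 1 b w r.neg (4 / 3) (2 / 3) 1)
  | two (e : Datum) (h : Eqs k o 1 b ψ.neg e (4 / 3) (2 / 3) 1) (he : e.X ≠ 0)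
  | pa (h : Eqs2 a.neg w.neg)
  | pb (h : Eqs2 b.neg ψ)
  | one (e f : Datum) (h : Eqs k o 1 t.neg e f (4 / 3) (2 / 3) 1) (h' : Eqs2 t e) (hf : f.X ≠ 0)

theorem Base.result (h : Base k o a b t ψ w r) (hs : Shapes k o a b t ψ w r)
    (hint : ∃ n : ℤ, b.X = n) (ha1 : a.X ≠ 1) : ψ.X = 2 ∧ ψ.U = 2 * o.U := by
  obtain ⟨g, f₁, f₂, c⟩ := h.coords
  obtain ⟨tX, wX, rX, hg, hk2, hII, hU, hV, hcr, hnm, hAaa, hAab⟩ := c
  obtain ⟨aU, tU, ψU, wU, oU⟩ := hU _ rfl
  obtain ⟨aV, tV, ψV, wV, oV⟩ := hV _ rfl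
  have ha := h.a_ne
  have hb := h.b_ne
  have ht := h.t_ne
  have hz := h.ψ_ne
  have hw := h.w_ne
  have hk := h.pos
  have hk0 := hk.ne'
  have bU : b.U = b.X * (b.U / b.X) := by field_simp
  have bV : b.V = b.X * (b.V / b.X) := by field_simp
  generalize b.U / b.X = u at aU tU ψU wU oU bU
  generalize b.V / b.X = v at aV tV ψV wV oV bV
  have oX := h.o_X
  have rU : r.U = -(o.U + b.U + ψ.U) := by have := h.A.sumU; linarith
  cases hs with
  | pa h' =>
    exfalso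
    have hX := h'.sumX
    have hU' := h'.sumU
    simp only [Datum.neg] at hX hU'
    rw [aU, wU] at hU'
    have : ψ.X * (4 * g) = 0 := by linear_combination -hU' + u * hX
    simp [hz, hg] at this
  | pb h' =>
    exfalso
    have hX := h'.sumX
    have hU' := h'.sumU
    simp only [Datum.neg] at hX hU'
    rw [bU, ψU] at hU'
    have : ψ.X * (4 * g) = 0 := by linear_combination hU' - u * hX
    simp [hz, hg] at this
  | four h' =>
    exfalso
    have hX := h'.sumX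
    have hU' := h'.sumU
    simp only [Datum.neg, one_mul, oX] at hX hU'
    rw [rU, aU, bU, ψU] at hU'
    rw [rX] at hX
    have : ψ.X * (4 * g) = 0 := by linear_combination (-1 / 2 : ℚ) * hU' + (u / 2) * hX
    simp [hz, hg] at this
  | three h' =>
    exfalso
    have hX := h'.sumX
    have hU' := h'.sumU
    simp only [Datum.neg, one_mul, oX] at hX hU'
    rw [rU, bU, ψU, wU, oU] at hU'
    rw [rX, wX] at hX
    rw [wX] at hU'
    have hL : f₁ = -(4 * ψ.X * g) := by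
      linear_combination (1 / 2 : ℚ) * hU' - (u / 2) * hX
    rw [hL] at hAaa
    have h1 : ψ.X * (t.X + ψ.X + 1) = 0 := by
      have h2 : (1 + b.X + ψ.X) * (4 * a.X * (ψ.X * (ψ.X + 1)) - b.X * t.X) = 0 := by
        apply mul_left_cancel₀ (show (4 * g ^ 2) ≠ 0 by positivity)
        linear_combination -(a.X) * hAaa + (4 / 3 : ℚ) * (1 + b.X + ψ.X) * hk2
      have hM : 1 + b.X + ψ.X ≠ 0 := fun e => h.r_ne (by rw [rX, e, neg_zero])
      have h3 := (mul_eq_zero.1 h2).resolve_left hM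
      apply mul_left_cancel₀ hb
      linear_combination h3 - (ψ.X + 1) * hII
    have h4 := (mul_eq_zero.1 h1).resolve_left hz
    have h5 : t.X = 2 * b.X := by linarith
    have h6 : a.X = b.X := by linarith
    rw [h6, h5] at hII
    have h7 : 3 * ψ.X = 2 * b.X := mul_left_cancel₀ hb (by linear_combination hII)
    obtain ⟨n, hn⟩ := hint
    have h8 : 8 * b.X = -3 := by linarith
    rw [hn] at h8
    have : (8 * n : ℤ) = -3 := by exact_mod_cast h8
    omega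
  | two e h' he =>
    exfalso
    obtain ⟨hX, hU', hV', Aaa, Aab, Abb⟩ := h'
    simp only [Datum.neg, one_mul, oX, div_one, neg_sq, div_neg, neg_mul, mul_neg, neg_neg] at hX hU' hV' Aaa Aab Abb
    have eX : e.X = -(1 + b.X - ψ.X) := by linarith
    have eU : e.U = -(o.U + b.U - ψ.U) := by linarith
    have eV : e.V = -(o.V + b.V - ψ.V) := by linarith
    have hM : 1 + b.X + -ψ.X ≠ 0 := fun e' => he (by rw [eX]; linarith)
    rw [eU, eX, oU, bU, ψU] at Aaa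
    rw [eU, eV, eX, oU, oV, bU, bV, ψU, ψV] at Aab
    rw [eV, eX, oV, bV, ψV] at Abb
    have hM' : 1 + b.X - ψ.X ≠ 0 := by rwa [sub_eq_add_neg]
    field_simp at Aaa Aab Abb
    obtain ⟨-, p2, -⟩ := three_point (z := -ψ.X) (e₁ := 4 * g) (e₂ := g) (f₁ := f₁) (f₂ := f₂)
      (Raa := k * (4 / 3)) (Rab := k * (2 / 3)) (Rbb := k * 1) rfl hM
      (by linear_combination (-1 / 3 : ℚ) * Aaa) (by linear_combination (-1 / 3 : ℚ) * Aab)
      (by linear_combination -Abb)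
    have hf : f₁ = 0 := by
      have h1 : (4 / 3 : ℚ) * k * (g * b.X) * f₁ = 0 := by
        have hc : (3 * f₁ - 2 * f₂) * a.X = 2 * g * t.X := by rw [hcr]; field_simp
        apply mul_left_cancel₀ ha
        linear_combination a.X * p2 - (2 / 3 : ℚ) * k * g * b.X * hc + (4 / 9 : ℚ) * k * hk2
      simpa [hk0, hg, hb] using h1
    rw [hf] at hcr hnm
    have hf2 : f₂ * a.X = -(g * t.X) := by
      have : (3 * 0 - 2 * f₂) * a.X = 2 * g * t.X := by rw [hcr]; field_simp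
      linear_combination (-1 / 2 : ℚ) * this
    have h9 : t.X = a.X * (b.X + 1) := by
      apply mul_left_cancel₀ (show 2 * t.X * g ^ 2 ≠ 0 by positivity)
      linear_combination a.X * hnm - (2 * f₂ * a.X - 2 * g * t.X) * hf2
    exact ha1 (mul_left_cancel₀ hb (by linear_combination -h9 + tX))
  | one e f h' h2 hf =>
    exfalso
    obtain ⟨hX, hU', hV', Aaa, Aab, Abb⟩ := h'
    simp only [Datum.neg, one_mul, oX, div_one, neg_sq, div_neg, neg_mul, mul_neg, neg_neg] at hX hU' hV' Aaa Aab Abb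
    have eX : e.X = -t.X := by have := h2.sumX; linarith
    have eU : e.U = -t.U := by have := h2.sumU; linarith
    have eV : e.V = -t.V := by have := h2.sumV; linarith
    have fX : f.X = -(1 - 2 * t.X) := by linarith
    have fU : f.U = -(o.U - 2 * t.U) := by linarith
    have fV : f.V = -(o.V - 2 * t.V) := by linarith
    have hM : 1 - 2 * t.X ≠ 0 := fun e' => hf (by rw [fX, e', neg_zero])
    rw [eX, eU, fX, fU, oU, tU] at Aaa
    rw [eX, eU, eV, fX, fU, fV, oU, oV, tU, tV] at Aab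
    rw [eX, eV, fX, fV, oV, tV] at Abb
    have hM' : 1 - t.X * 2 ≠ 0 := by rwa [mul_comm]
    field_simp [hM'] at Aaa Aab Abb
    have p1 : -2 * t.X * f₁ ^ 2 = 4 / 3 * k * (1 - 2 * t.X) := by linear_combination (1 / 3 : ℚ) * Aaa
    have p2 : -2 * t.X * (f₁ * (f₂ - g)) = 2 / 3 * k * (1 - 2 * t.X) := by
      linear_combination (1 / 3 : ℚ) * Aab
    have p3 : -2 * t.X * (f₂ - g) ^ 2 = k * (1 - 2 * t.X) := by linear_combination Abb
    have : (8 / 9 : ℚ) * (k * (1 - 2 * t.X)) ^ 2 = 0 := by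
      linear_combination -(k * (1 - 2 * t.X)) * p1 + (2 / 3 * k * (1 - 2 * t.X) - 2 * t.X * f₁ * (f₂ - g)) * p2
        + 2 * t.X * f₁ ^ 2 * p3
    simp [hk0, hM] at this
  | generic e h' he =>
    obtain ⟨hX, hU', hV', Aaa, Aab, Abb⟩ := h'
    simp only [one_mul, oX, div_one] at hX hU' hV' Aaa Aab Abb
    have eX : e.X = -(1 + a.X + w.X) := by linarith
    have eU : e.U = -(o.U + a.U + w.U) := by linarith
    have eV : e.V = -(o.V + a.V + w.V) := by linarith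
    have hM : 1 + a.X + w.X ≠ 0 := fun e' => he (by rw [eX, e', neg_zero])
    rw [eX, eU, oU, aU, wU] at Aaa
    rw [eX, eU, eV, oU, oV, aU, aV, wU, wV] at Aab
    have hA0 : 1 + b.X + ψ.X ≠ 0 := fun e' => h.r_ne (by rw [rX, e', neg_zero])
    have hM0 : 1 + a.X + w.X ≠ 0 := hM
    set A := 1 + b.X + ψ.X with hA
    set L := f₁ + 4 * ψ.X * g with hL
    set L₂ := f₂ + ψ.X * g with hL2
    have hB : 1 + a.X + w.X = A + 2 * a.X := by rw [wX, tX, hA]; ring
    set B := 1 + a.X + w.X with hBdef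
    -- the four moments
    have qA1 : f₁ ^ 2 + 16 * ψ.X * g ^ 2 - L ^ 2 / A = 8 / 3 * k := by
      field_simp
      rw [hL, hA] at *
      linear_combination -3 * hAaa
    have qA2 : f₁ * f₂ + 4 * ψ.X * g ^ 2 - L * L₂ / A = 4 / 3 * k := by
      field_simp
      rw [hL, hL2, hA] at *
      linear_combination -3 * hAab
    have qB1 : f₁ ^ 2 + 16 * ψ.X ^ 2 * g ^ 2 / w.X - L ^ 2 / B = 4 / 3 * k := by
      refine (Eq.trans ?_ Aaa).trans (mul_comm k _)
      rw [hL]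
      field_simp
      rw [hBdef]
      ring
    have qB2 : f₁ * f₂ + 4 * ψ.X * g ^ 2 - L * (L₂ + 2 * t.X * g) / B = 2 / 3 * k := by
      rw [← Aab.trans (mul_comm k _), hL, hL2, hBdef, wX]
      have hW : t.X + ψ.X ≠ 0 := wX ▸ hw
      have hB0 : 1 + a.X + (t.X + ψ.X) ≠ 0 := wX ▸ hM
      field_simp
      ring
    have hDq : 16 * ψ.X * g ^ 2 - 16 * ψ.X ^ 2 * g ^ 2 / w.X = 8 / 3 * k := by
      rw [wX]
      have hW : t.X + ψ.X ≠ 0 := wX ▸ hw
      field_simp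
      apply mul_left_cancel₀ ha
      linear_combination 12 * t.X * g ^ 2 * hII - 4 * (t.X + ψ.X) * hk2
    have hB0 : B ≠ 0 := hM
    have hLeq : L ^ 2 * (B - A) = 4 / 3 * k * (A * B) := by
      have h1 : L ^ 2 / A - L ^ 2 / B = 4 / 3 * k := by linarith
      field_simp at h1
      linear_combination (1 / 3 : ℚ) * h1
    have hLa : L ^ 2 * a.X ^ 2 = b.X * t.X * g ^ 2 * (A * B) := by
      have : L ^ 2 * (2 * a.X) = 4 / 3 * k * (A * B) := by rw [hB] at hLeq ⊢; linear_combination hLeq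
      linear_combination (a.X / 2) * this + (A * B / 3) * hk2
    have hL0 : L ≠ 0 := by
      intro e0
      rw [e0] at hLa
      have : b.X * t.X * g ^ 2 * (A * B) = 0 := by linear_combination -hLa
      simp [hb, ht, hg, hA0, hB0] at this
    have hlin : 2 * A * t.X * g - 2 * a.X * L₂ = a.X * L := by
      have h1 : L * (L₂ + 2 * t.X * g) / B - L * L₂ / A = 2 / 3 * k := by linarith
      field_simp at h1
      have h2 : L * (A * (L₂ + 2 * t.X * g) - B * L₂) = 2 / 3 * k * (A * B) := by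
        linear_combination (1 / 3 : ℚ) * h1
      apply mul_left_cancel₀ hL0
      apply mul_left_cancel₀ (show (1 : ℚ) ≠ 0 by norm_num)
      rw [hB] at h2 hLeq
      linear_combination h2 - (1 / 2 : ℚ) * hLeq
    have hc : (3 * f₁ - 2 * f₂) * a.X = 2 * g * t.X := by rw [hcr]; field_simp
    have hf1a : f₁ * a.X = g * (t.X + a.X * ψ.X) := by
      have h1 : 4 * (f₁ * a.X) = 2 * (A + 1) * t.X * g - 6 * a.X * ψ.X * g := by
        rw [hL, hL2] at hlin
        linear_combination -hlin + hc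
      rw [hA, tX] at h1
      rw [tX] at hII ⊢
      linear_combination (1 / 4 : ℚ) * h1 - (g / 2) * hII
    have hAT : L * a.X = g * (A * t.X) := by
      rw [hL, hA, tX]
      rw [tX] at hII hf1a
      linear_combination hf1a + g * hII
    have hA2b : A = 2 * b.X := by
      have h1 : A * t.X = b.X * B := by
        apply mul_left_cancel₀ (show g ^ 2 * (A * t.X) ≠ 0 by positivity)
        linear_combination hLa - (L * a.X + g * (A * t.X)) * hAT
      rw [hB, tX] at h1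
      exact mul_left_cancel₀ ha (by linear_combination h1)
    have hz1 : ψ.X = b.X - 1 := by rw [hA] at hA2b; linarith
    have hf2 : 2 * (f₂ * a.X) = g * (t.X + 3 * a.X * ψ.X) := by linear_combination 3 * hf1a - hc
    have hN : t.X ^ 2 + 2 * t.X * a.X * ψ.X + 5 * (a.X * ψ.X) ^ 2 = 4 * t.X * a.X * (b.X + 1) := by
      apply mul_left_cancel₀ (pow_ne_zero 2 hg)
      linear_combination 2 * a.X * hnm - 2 * (f₁ * a.X + g * (t.X + a.X * ψ.X)) * hf1a
        + 2 * (f₁ * a.X) * hf2 + 2 * g * (t.X + 3 * a.X * ψ.X) * hf1a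
        - (2 * (f₂ * a.X) + g * (t.X + 3 * a.X * ψ.X)) * hf2
    rw [hz1, tX] at hII hN
    have h5 : 5 * a.X * (b.X - 1) = (a.X + b.X) * (2 * b.X - 1) := by linear_combination 2 * hII - hII + 0
    have ht' : a.X + b.X ≠ 0 := tX ▸ ht
    have hlin2 : b.X = a.X * (-2 * b.X ^ 2 + 5 * b.X + 4) := by
      apply mul_left_cancel₀ ht'
      linear_combination hN - a.X * (b.X - 1) * h5
    have ha' : a.X * (3 * b.X - 4) = 2 * b.X ^ 2 - b.X := by linear_combination hII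
    have hb3 : b.X = 3 := by
      have h1 : (4 * b.X ^ 2) * (b.X - 3) = 0 := by
        apply mul_left_cancel₀ hb
        linear_combination (3 * b.X - 4) * hlin2 + (-2 * b.X ^ 2 + 5 * b.X + 4) * ha'
      have := (mul_eq_zero.1 h1).resolve_left (by positivity)
      linarith
    have hz2 : ψ.X = 2 := by rw [hz1, hb3]; norm_num
    refine ⟨hz2, ?_⟩
    have ha3 : a.X = 3 := by rw [hb3] at ha'; linarith
    rw [ψU, oU, hz2]
    rw [tX, ha3, hb3, hz2] at hf1a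
    linear_combination (-2 / 3 : ℚ) * hf1a

end Cfsg.Agent.Lib.Higman4
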