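import Mathlib
import Cfsg.Agent.Lib.Higman3.Transport

/-!
The group of order 648: even monomial triples, acting on three blocks of three points. An element
is stored as a number below 1296 carrying four indices of permutations of three letters, so that
the finite checks are fast.
-/

set_option autoImplicit false

namespace Cfsg.Agent.Lib.Higman4

open Equiv
open Cfsg.Agent.Lib.Higman3 (Tri co sg th fA emb blockEquiv)

theorem co_mk (f : Fin 3 → Perm (Fin 3)) (i : Fin 3) : co i (f 0, f 1, f 2) = f i := by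
  fin_cases i <;> rfl

theorem tri_ext {σ τ : Tri} (h : ∀ i, co i σ = co i τ) : σ = τ :=
  Prod.ext (h 0) (Prod.ext (h 1) (h 2))

/-- Coordinates read along a permutation of the blocks. -/
def shift (π : Perm (Fin 3)) (σ : Tri) : Tri := (co (π 0) σ, co (π 1) σ, co (π 2) σ)

theorem shift_shift (π ρ : Perm (Fin 3)) (σ : Tri) : shift π (shift ρ σ) = shift (ρ * π) σ := by
  have e := co_mk fun i => co (ρ i) σ
  simp only [shift, e, Perm.mul_apply]

theorem shift_one (σ : Tri) : shift 1 σ = σ := rfl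

/-- Coordinates moved along a permutation of the blocks. -/
def moveTri (π : Perm (Fin 3)) : MulAut Tri where
  toFun σ := shift π⁻¹ σ
  invFun σ := shift π σ
  left_inv σ := by
    show shift π (shift π⁻¹ σ) = σ
    rw [shift_shift, inv_mul_cancel, shift_one]
  right_inv σ := by
    show shift π⁻¹ (shift π σ) = σ
    rw [shift_shift, mul_inv_cancel, shift_one]
  map_mul' σ τ := by simp [shift, Higman3.co_mul]

/-- The action of block permutations on triples. -/
def moveHom : Perm (Fin 3) →* MulAut Tri where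
  toFun := moveTri
  map_one' := MulEquiv.ext fun σ => by
    show shift (1 : Perm (Fin 3))⁻¹ σ = σ
    rw [inv_one, shift_one]
  map_mul' π ρ := MulEquiv.ext fun σ => by
    show shift (π * ρ)⁻¹ σ = shift π⁻¹ (shift ρ⁻¹ σ)
    rw [shift_shift, mul_inv_rev]

/-- The wreath product, as a semidirect product. -/
abbrev WP : Type := Tri ⋊[moveHom] Perm (Fin 3)

/-- The six permutations of three letters as tables. -/
def tab : Fin 6 → Fin 3 → Fin 3
  | 0 => ![0, 1, 2] | 1 => ![1, 0, 2] | 2 => ![2, 1, 0]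
  | 3 => ![0, 2, 1] | 4 => ![1, 2, 0] | 5 => ![2, 0, 1]

/-- The table of the inverse. -/
def tabInv : Fin 6 → Fin 6
  | 0 => 0 | 1 => 1 | 2 => 2 | 3 => 3 | 4 => 5 | 5 => 4

theorem tab_left : ∀ k x, tab (tabInv k) (tab k x) = x := by decide +kernel

theorem tab_right : ∀ k x, tab k (tab (tabInv k) x) = x := by decide +kernel

/-- The six permutations. -/
def q3 (n : ℕ) : Perm (Fin 3) :=
  let k : Fin 6 := ⟨n % 6, Nat.mod_lt _ (by norm_num)⟩
  ⟨tab k, tab (tabInv k), tab_left k, tab_right k⟩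

/-- The index of a permutation. -/
def keyP (π : Perm (Fin 3)) : ℕ :=
  if π 0 = 0 then (if π 1 = 1 then 0 else 3)
  else if π 0 = 1 then (if π 1 = 0 then 1 else 4) else (if π 1 = 1 then 2 else 5)

theorem q3_keyP : ∀ π : Perm (Fin 3), q3 (keyP π) = π ∧ keyP π < 6 := by decide +kernel

/-- Multiplication of indices. -/
def mul6 (a b : ℕ) : ℕ := 0x8117452d4284ad9a224e506c688 >>> (3 * (6 * a + b)) % 8

/-- The image of a letter. -/
def act6 (a i : ℕ) : ℕ := 0x489606864 >>> (2 * (3 * a + i)) % 4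

/-- The index of the inverse. -/
def inv6 (a : ℕ) : ℕ := if a < 4 then a else 9 - a

/-- The sign of an index. -/
def s6 (a : ℕ) : ℤ := if a = 0 then 1 else if 4 ≤ a then 1 else -1

theorem q3_facts : ∀ a : Fin 6, (∀ b : Fin 6, mul6 a b < 6 ∧ q3 (mul6 a b) = q3 a * q3 b) ∧
    (inv6 a < 6 ∧ q3 (inv6 a) = (q3 a)⁻¹) ∧ (Perm.sign (q3 a) : ℤ) = s6 a ∧
    (q3 a = 1 ↔ (a : ℕ) = 0) ∧
    ∀ i : Fin 3, (q3 a i : ℕ) = act6 a i ∧ ((q3 a)⁻¹ i : ℕ) = act6 (inv6 a) i := by
  decide +kernel

/-- An element of the wreath product. -/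
structure W where
  /-- The code. -/
  code : Fin 1296

instance : DecidableEq W := fun a b =>
  decidable_of_iff ((a.code : ℕ) = b.code)
    ⟨fun h => by cases a; cases b; exact congrArg W.mk (Fin.ext h), fun h => by rw [h]⟩

instance : Fintype W := Fintype.ofEquiv (Fin 1296) ⟨W.mk, W.code, fun _ => rfl, fun _ => rfl⟩

/-- The element with a given code. -/
def ofCode (n : ℕ) : W := ⟨⟨n % 1296, Nat.mod_lt _ (by norm_num)⟩⟩

/-- The element with given indices. -/
def ofDigits (a b c p : ℕ) : W := ofCode (((a * 6 + b) * 6 + c) * 6 + p)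

/-- The index of a coordinate. -/
def cN (i : ℕ) (w : W) : ℕ := (w.code : ℕ) / 6 ^ (3 - i) % 6

/-- The index of the block permutation. -/
def pN (w : W) : ℕ := (w.code : ℕ) % 6

theorem digits {a b c p : ℕ} (ha : a < 6) (hb : b < 6) (hc : c < 6) (hp : p < 6) :
    cN 0 (ofDigits a b c p) = a ∧ cN 1 (ofDigits a b c p) = b ∧ cN 2 (ofDigits a b c p) = c ∧
      pN (ofDigits a b c p) = p := by
  simp only [cN, pN, ofDigits, ofCode, Nat.reduceSub, Nat.reducePow]
  omega

theorem cN_lt (i : ℕ) (w : W) : cN i w < 6 := Nat.mod_lt _ (by norm_num)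

theorem pN_lt (w : W) : pN w < 6 := Nat.mod_lt _ (by norm_num)

instance : Mul W :=
  ⟨fun x y =>
    let q := inv6 (pN x)
    ofDigits (mul6 (cN 0 x) (cN (act6 q 0) y)) (mul6 (cN 1 x) (cN (act6 q 1) y))
      (mul6 (cN 2 x) (cN (act6 q 2) y)) (mul6 (pN x) (pN y))⟩

instance : One W := ⟨ofCode 0⟩

instance : Inv W :=
  ⟨fun x =>
    ofDigits (inv6 (cN (act6 (pN x) 0) x)) (inv6 (cN (act6 (pN x) 1) x))
      (inv6 (cN (act6 (pN x) 2) x)) (inv6 (pN x))⟩

/-- The element as a pair of a triple and a block permutation. -/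
def dec (w : W) : WP := ⟨(q3 (cN 0 w), q3 (cN 1 w), q3 (cN 2 w)), q3 (pN w)⟩

/-- The code of a pair. -/
def ofPair (x : WP) : W :=
  ofDigits (keyP (co 0 x.left)) (keyP (co 1 x.left)) (keyP (co 2 x.left)) (keyP x.right)

theorem ofPair_dec : ∀ w : W, ofPair (dec w) = w := by decide +kernel

theorem co_dec (i : Fin 3) (w : W) : co i (dec w).left = q3 (cN i w) := by fin_cases i <;> rfl

theorem dec_ofPair (x : WP) : dec (ofPair x) = x := by
  obtain ⟨d0, d1, d2, d3⟩ := digits (q3_keyP (co 0 x.left)).2 (q3_keyP (co 1 x.left)).2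
    (q3_keyP (co 2 x.left)).2 (q3_keyP x.right).2
  refine SemidirectProduct.ext (tri_ext fun i => ?_) ?_
  · rw [co_dec]
    fin_cases i
    · show q3 (cN 0 (ofPair x)) = _
      rw [ofPair, d0]; exact (q3_keyP _).1
    · show q3 (cN 1 (ofPair x)) = _
      rw [ofPair, d1]; exact (q3_keyP _).1
    · show q3 (cN 2 (ofPair x)) = _
      rw [ofPair, d2]; exact (q3_keyP _).1
  · show q3 (pN (ofPair x)) = _
    rw [ofPair, d3]; exact (q3_keyP _).1

theorem dec_injective : Function.Injective dec := fun a b h => by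
  rw [← ofPair_dec a, h, ofPair_dec]

theorem dec_one : dec 1 = 1 :=
  SemidirectProduct.ext (by decide +kernel) (by decide +kernel)

theorem dec_mul (x y : W) : dec (x * y) = dec x * dec y := by
  obtain ⟨hmp, ⟨hq, -⟩, -, -, hqi⟩ := q3_facts ⟨pN x, pN_lt x⟩
  have hm : ∀ (i : Fin 3) (j : ℕ), mul6 (cN i x) (cN j y) < 6 := fun i j =>
    ((q3_facts ⟨cN i x, cN_lt i x⟩).1 ⟨cN j y, cN_lt j y⟩).1
  obtain ⟨d0, d1, d2, d3⟩ := digits (hm 0 (act6 (inv6 (pN x)) 0)) (hm 1 (act6 (inv6 (pN x)) 1))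
    (hm 2 (act6 (inv6 (pN x)) 2)) (hmp ⟨pN y, pN_lt y⟩).1
  have key : ∀ i : Fin 3, q3 (mul6 (cN i x) (cN (act6 (inv6 (pN x)) i) y)) =
      co i (dec x * dec y).left := fun i => by
    rw [((q3_facts ⟨cN i x, cN_lt i x⟩).1 ⟨cN _ y, cN_lt _ y⟩).2, SemidirectProduct.mul_left,
      Higman3.co_mul, co_dec]
    congr 1
    show _ = co i (shift (q3 (pN x))⁻¹ (dec y).left)
    rw [shift, co_mk (fun j => co ((q3 (pN x))⁻¹ j) (dec y).left) i, co_dec, (hqi i).2]
  refine SemidirectProduct.ext (tri_ext fun i => ?_) ?_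
  · rw [co_dec, ← key i]
    fin_cases i
    · exact congrArg q3 d0
    · exact congrArg q3 d1
    · exact congrArg q3 d2
  · rw [SemidirectProduct.mul_right]
    exact (congrArg q3 d3).trans (hmp ⟨pN y, pN_lt y⟩).2

theorem inv_mul_self' : ∀ w : W, w⁻¹ * w = 1 := by decide +kernel

instance : Group W :=
  Group.ofLeftAxioms (fun a b c => dec_injective (by simp only [dec_mul, mul_assoc]))
    (fun a => dec_injective (by rw [dec_mul, dec_one, one_mul])) inv_mul_self'

/-- The isomorphism with the semidirect product. -/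
def decEquiv : W ≃* WP where
  toFun := dec
  invFun := ofPair
  left_inv := ofPair_dec
  right_inv := dec_ofPair
  map_mul' := dec_mul

/-- The triple. -/
def W.left (w : W) : Tri := (dec w).left

/-- The block permutation. -/
def W.right (w : W) : Perm (Fin 3) := (dec w).right

/-- The sign of a coordinate. -/
def sgW (i : ℕ) (w : W) : ℤ := s6 (cN i w)

/-- The sign of the block permutation. -/
def sgn (w : W) : ℤ := s6 (pN w)

theorem sg_left (i : Fin 3) (w : W) : sg i w.left = sgW i w := by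
  rw [sg, W.left, co_dec]
  exact (q3_facts ⟨_, cN_lt i w⟩).2.2.1

theorem sign_right (w : W) : (Perm.sign w.right : ℤ) = sgn w := (q3_facts ⟨_, pN_lt w⟩).2.2.1

theorem right_eq_one (w : W) : w.right = 1 ↔ pN w = 0 := (q3_facts ⟨_, pN_lt w⟩).2.2.2.1

/-- Even elements. -/
def Even' (w : W) : Prop := sgW 0 w * sgW 1 w * sgW 2 w * sgn w = 1

instance (w : W) : Decidable (Even' w) := by unfold Even'; infer_instance

/-- The 648 even elements. -/
def kSet : Finset W := Finset.univ.filter Even'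

theorem forall_filter_iff {α : Type*} [Fintype α] (p : α → Prop) [DecidablePred p] (P : α → Prop) :
    (∀ a : α, p a → P a) ↔ ∀ a ∈ Finset.univ.filter p, P a := by simp

theorem forall_filter_filter_iff {α : Type*} [Fintype α] (p L : α → Prop) [DecidablePred p]
    [DecidablePred L] (P : α → Prop) :
    (∀ a : α, p a → L a → P a) ↔ ∀ a ∈ (Finset.univ.filter p).filter L, P a := by
  simp

theorem exists_filter_iff {α : Type*} [Fintype α] (p : α → Prop) [DecidablePred p] (P : α → Prop) :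
    (∃ a : α, p a ∧ P a) ↔ ∃ a ∈ Finset.univ.filter p, P a := by simp

theorem mem_filter_univ_iff {α : Type*} [Fintype α] (p : α → Prop) [DecidablePred p] (a : α) :
    a ∈ Finset.univ.filter p ↔ p a := by simp

theorem mem_kSet {w : W} : w ∈ kSet ↔ Even' w := mem_filter_univ_iff Even' w

/-- Quantification over the even elements, decided by running over all elements. -/
instance (priority := high) decForallK {P : W → Prop} [DecidablePred P] :
    Decidable (∀ w ∈ kSet, P w) :=
  decidable_of_iff _ (forall_filter_iff Even' P)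

/-- The same for a part of the even elements. -/
instance (priority := high) decForallKFilter {L P : W → Prop} [DecidablePred L]
    [DecidablePred P] : Decidable (∀ w ∈ kSet.filter L, P w) :=
  decidable_of_iff _ (forall_filter_filter_iff Even' L P)

/-- The same for existence. -/
instance (priority := high) decExistsK {P : W → Prop} [DecidablePred P] :
    Decidable (∃ w ∈ kSet, P w) :=
  decidable_of_iff _ (exists_filter_iff Even' P)

/-- The elements of the group of order 27. -/
def InJ (w : W) : Prop := pN w = 0 ∧ sgW 0 w = 1 ∧ sgW 1 w = 1 ∧ sgW 2 w = 1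

instance (w : W) : Decidable (InJ w) := by unfold InJ; infer_instance

/-- Elements with a power in the group of order 27 other than one. -/
def InX (w : W) : Prop := (InJ (w ^ 4) ∧ w ^ 4 ≠ 1) ∨ (InJ (w ^ 3) ∧ w ^ 3 ≠ 1)

instance (w : W) : Decidable (InX w) := by unfold InX; infer_instance

/-- Translation part of a coordinate. -/
def tr (i : ℕ) (w : W) : ℕ := act6 (cN i w) 0

/-- The stabiliser of a character supported on one block. -/
def InL4 (w : W) : Prop := act6 (pN w) 0 = 0 ∧ sgW 0 w = 1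

instance (w : W) : Decidable (InL4 w) := by unfold InL4; infer_instance

/-- An exponent of a fourth root of unity. -/
def k4 (w : W) : ℕ :=
  if pN w = 0 then (if sgW 1 w = 1 then 0 else 2) else (if sgW 1 w = 1 then 3 else 1)

/-- The stabiliser of a character supported on two blocks. -/
def InL2 (w : W) : Prop := act6 (pN w) 2 = 2 ∧ sgW 0 w = 1 ∧ sgW 1 w = 1

instance (w : W) : Decidable (InL2 w) := by unfold InL2; infer_instance

/-- The stabiliser of a character supported on three blocks. -/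
def InL3 (w : W) : Prop := sgn w = 1 ∧ sgW 0 w = 1 ∧ sgW 1 w = 1 ∧ sgW 2 w = 1

instance (w : W) : Decidable (InL3 w) := by unfold InL3; infer_instance

/-- Exponents of twelfth roots of unity. -/
def e4 (w : W) : ℕ := (4 * tr 0 w + 3 * k4 w) % 12
/-- The same, conjugate on the complement. -/
def e4' (w : W) : ℕ := (4 * tr 0 w + 9 * k4 w) % 12
/-- The exponent for two blocks. -/
def e2 (w : W) : ℕ := 4 * (tr 0 w + tr 1 w) % 12
/-- The exponent for three blocks. -/
def e3 (w : W) : ℕ := (4 * (tr 0 w + tr 1 w + tr 2 w) + 4 * act6 (pN w) 0) % 12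

/-- Coordinates of a twelfth root of unity. -/
def red : ℕ → ℤ × ℤ × ℤ × ℤ
  | 0 => (1, 0, 0, 0)
  | 1 => (0, 1, 0, 0)
  | 2 => (0, 0, 1, 0)
  | 3 => (0, 0, 0, 1)
  | 4 => (-1, 0, 1, 0)
  | 5 => (0, -1, 0, 1)
  | 6 => (-1, 0, 0, 0)
  | 7 => (0, -1, 0, 0)
  | 8 => (0, 0, -1, 0)
  | 9 => (0, 0, 0, -1)
  | 10 => (1, 0, -1, 0)
  | 11 => (0, 1, 0, -1)
  | _ => (0, 0, 0, 0)

/-- An induced linear character, by coordinates. -/
def monVec {n : ℕ} (L : W → Prop) [DecidablePred L] (e : W → ℕ) (t : Fin n → W) (w : W) :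
    ℤ × ℤ × ℤ × ℤ :=
  ∑ j, if L ((t j)⁻¹ * w * t j) then red (e ((t j)⁻¹ * w * t j)) else 0

/-- The element of order three moving the first block. -/
def gA0 : W := ofCode 864
/-- The same on the second block. -/
def gB0 : W := ofCode 144
/-- The same on the third block. -/
def gC0 : W := ofCode 24
/-- A 3-cycle of blocks. -/
def cyc : W := ofCode 4
/-- A double transposition inside the blocks 0 and 1. -/
def flip01 : W := ofCode 252
/-- An involution exchanging two blocks. -/
def swapFlip : W := ofCode 7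

/-- Representatives modulo the first stabiliser. -/
def t4 : Fin 6 → W := fun j => ofCode (([0, 252, 4, 46, 5, 227] : List ℕ).getD j 0)
/-- Representatives modulo the second stabiliser. -/
def t2 : Fin 12 → W := fun j =>
  ofCode (([0, 222, 252, 42, 4, 256, 46, 226, 5, 47, 227, 257] : List ℕ).getD j 0)
/-- Representatives modulo the third stabiliser. -/
def t3 : Fin 8 → W := fun j =>
  ofCode (([0, 222, 252, 42, 7, 37, 259, 217] : List ℕ).getD j 0)

/-- A real vector of coordinates as an element of `ℤ[√3]`. -/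
def toZ3 (v : ℤ × ℤ × ℤ × ℤ) : ℤ√3 := ⟨v.1, -v.2.2.2⟩
/-- The coordinates of an element of `ℤ[√3]`. -/
def ofZ3 (z : ℤ√3) : ℤ × ℤ × ℤ × ℤ := (z.re, 2 * z.im, 0, -z.im)

/-- The character `6_i`. -/
def c6 (w : W) : ℤ√3 := toZ3 (monVec InL4 e4 t4 w)
/-- The character `6_{-i}`. -/
def c6' (w : W) : ℤ√3 := toZ3 (monVec InL4 e4' t4 w)
/-- A character of degree 8. -/
def c8 (w : W) : ℤ√3 := toZ3 (monVec InL3 e3 t3 w)
/-- A character of degree 12. -/
def c12 (w : W) : ℤ√3 := toZ3 (monVec InL2 e2 t2 w)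
/-- The monomial character of degree 3. -/
def c3 (w : W) : ℤ := ∑ i : Fin 3, if act6 (pN w) i = (i : ℕ) then sgW i w else 0
/-- Twisted by the sign of the block permutation. -/
def c3' (w : W) : ℤ := sgn w * c3 w
/-- The number of fixed blocks. -/
def cFix (w : W) : ℤ := ∑ i : Fin 3, if act6 (pN w) i = (i : ℕ) then 1 else 0

/-- Nine sets of even elements on each of which the five functions below are constant, one
hexadecimal digit for each code. -/
def cls (w : W) : ℕ :=
  0x8010008005420005420005420100007010008100008005500005500005500000007004250004040100003010003000003004200004250004040000003100003010003004200004250004040010003000003100003004200100007000007005020005020005020010006010008100008004400004400004400000007100008000008004520004520004520010007005050005240010003100003000003005200005050005240000003010003100003005200005050005240100003000003010003005200000007010007004020004020004020100006002540000550100003000003010003002500000440002450010003000003100003002400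100003010003000000002200002200000000010003100003002020000220002220000000000003000003002020002220000220110000002040002050000000110000000000000000002540000550010003100003000003002500000440002450100003010003000003002400000003000003000220002020002220110000100003010003002200000000002200000000010003100003002220002020000220000000002040002050000000000000110000000000002540000550000003010003100003002500000440002450000003100003010003002400010003100003000220002220002020000000000003000003002220000220002020110000100003010003002200002200000000000000002040002050110000000000000000000000100007000007000420000420000420010006000007010007000520000520000520100006000250000240000000000000110000000000000250000240110000000000000000000000000250000240000000110000000000000000010006100006000000000000000000000000 >>> (4 * (w.code : ℕ)) % 16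

/-- The function `A`. -/
def gA (w : W) : ℤ√3 := ⟨([0, 0, 0, 3, 3, 3, 3, 6, 9] : List ℤ).getD (cls w) 0, 0⟩
/-- The function `A'`. -/
def gA' (w : W) : ℤ√3 := ⟨([0, 3, 3, 0, 0, 0, 0, 9, 0] : List ℤ).getD (cls w) 0, 0⟩
/-- The function `C`. -/
def gC (w : W) : ℤ√3 :=
  ⟨([0, 0, 0, -3, 0, 0, 3, 6, 9] : List ℤ).getD (cls w) 0,
    ([0, 0, 0, 0, -1, 1, 0, 0, 0] : List ℤ).getD (cls w) 0⟩
/-- The function `D`. -/
def gD (w : W) : ℤ√3 :=
  ⟨([0, -3, 0, 3, 0, 0, 9, 0, 0] : List ℤ).getD (cls w) 0,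
    ([0, 0, 0, 0, 1, -1, 0, 0, 0] : List ℤ).getD (cls w) 0⟩
/-- The function `P`. -/
def gP (w : W) : ℤ√3 := ⟨0, ([0, 0, 0, 0, 2, -2, 0, 0, 0] : List ℤ).getD (cls w) 0⟩

theorem all_values : ∀ w ∈ kSet, (monVec InL4 e4 t4 w = ofZ3 (c6 w) ∧
    monVec InL4 e4' t4 w = ofZ3 (c6' w) ∧ monVec InL3 e3 t3 w = ofZ3 (c8 w) ∧
    monVec InL2 e2 t2 w = ofZ3 (c12 w)) ∧
    (gA' w = 1 + (c3' w : ℤ√3) + c8 w - c12 w ∧
    gC w = (c3' w : ℤ√3) + (c3 w : ℤ√3) - c6 w ∧
    gD w = (cFix w : ℤ√3) - 1 + c6 w - c8 w ∧ gP w = c6 w - c6' w) := by decide +kernel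

theorem reps_even : (∀ j, Even' (t4 j)) ∧ (∀ j, Even' (t2 j)) ∧ (∀ j, Even' (t3 j)) := by
  decide +kernel

theorem reps_bij :
    (∀ w ∈ kSet, ∃ j, InL4 ((t4 j)⁻¹ * w) ∧ ∀ k, InL4 ((t4 k)⁻¹ * w) → k = j) ∧
    (∀ w ∈ kSet, ∃ j, InL2 ((t2 j)⁻¹ * w) ∧ ∀ k, InL2 ((t2 k)⁻¹ * w) → k = j) ∧
    (∀ w ∈ kSet, ∃ j, InL3 ((t3 j)⁻¹ * w) ∧ ∀ k, InL3 ((t3 k)⁻¹ * w) → k = j) := by
  decide +kernel

/-- The class of involutions inside the blocks. -/
def clA : Finset W := kSet.filter fun w => pN w = 0 ∧ w ≠ 1 ∧ w * w = 1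
/-- The class of involutions moving blocks. -/
def clB : Finset W := kSet.filter fun w => pN w ≠ 0 ∧ w * w = 1

theorem vanish : ∀ w ∈ kSet, ¬InX w → gA w = 0 ∧ gA' w = 0 ∧ gC w = 0 ∧ gD w = 0 ∧ gP w = 0 := by
  decide +kernel

theorem sums : (∑ w ∈ kSet, gA w = 648) ∧ (∑ w ∈ kSet, gA' w = 648) ∧ (∑ w ∈ kSet, gC w = 0) ∧
    (∑ w ∈ kSet, gD w = 0) ∧ (∑ w ∈ kSet, gP w = 0) := by
  decide +kernel

theorem grams :
    (∑ w ∈ kSet, gC w * gC w = 648 * 3) ∧ (∑ w ∈ kSet, gD w * gD w = 648 * 3) ∧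
    (∑ w ∈ kSet, gA w * gA w = 648 * 4) ∧ (∑ w ∈ kSet, gA' w * gA' w = 648 * 4) ∧
    (∑ w ∈ kSet, gP w * gP w = 648 * 2) ∧ (∑ w ∈ kSet, gC w * gD w = -648) ∧
    (∑ w ∈ kSet, gC w * gA w = 648) ∧ (∑ w ∈ kSet, gC w * gA' w = 648) ∧
    (∑ w ∈ kSet, gC w * gP w = -648) ∧ (∑ w ∈ kSet, gD w * gA w = 648) ∧
    (∑ w ∈ kSet, gD w * gA' w = -648) ∧ (∑ w ∈ kSet, gD w * gP w = 648) ∧
    (∑ w ∈ kSet, gA w * gA' w = 648) ∧ (∑ w ∈ kSet, gA w * gP w = 0) ∧
    (∑ w ∈ kSet, gA' w * gP w = 0) := by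
  decide +kernel

theorem pairs_aa :
    3 * (∑ u ∈ clA, ∑ v ∈ clA, gA (u * v)) = 8 * 729 ∧
    3 * (∑ u ∈ clA, ∑ v ∈ clA, gA' (u * v)) = 4 * 729 ∧
    (∑ u ∈ clA, ∑ v ∈ clA, gC (u * v)) = 0 ∧
    3 * (∑ u ∈ clA, ∑ v ∈ clA, gD (u * v)) = 8 * 729 := by
  decide +kernel

theorem pairs_ab :
    3 * (∑ u ∈ clA, ∑ v ∈ clB, gA (u * v)) = 4 * 1458 ∧
    3 * (∑ u ∈ clA, ∑ v ∈ clB, gA' (u * v)) = 2 * 1458 ∧
    (∑ u ∈ clA, ∑ v ∈ clB, gC (u * v)) = 0 ∧
    (∑ u ∈ clA, ∑ v ∈ clB, gD (u * v)) = 0 := by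
  decide +kernel

theorem pairs_bb :
    3 * (∑ u ∈ clB, ∑ v ∈ clB, gA (u * v)) = 4 * 2916 ∧
    (∑ u ∈ clB, ∑ v ∈ clB, gA' (u * v)) = 2916 ∧
    3 * (∑ u ∈ clB, ∑ v ∈ clB, gC (u * v)) = 2 * 2916 ∧
    (∑ u ∈ clB, ∑ v ∈ clB, gD (u * v)) = 0 := by
  decide +kernel

end Cfsg.Agent.Lib.Higman4
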