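import Mathlib
import Cfsg.Agent.Lib.Higman4.Wreath

/-!
The group generated in degree nine by the four given permutations is the group of even monomial
triples; facts about it used for a subgroup isomorphic to it.
-/

set_option autoImplicit false

namespace Cfsg.Agent.Lib.Higman4

open Equiv
open Cfsg.Agent.Lib.Higman3 (Tri co sg th fA emb blockEquiv evenSub evenSet)

/-- Permutations of the blocks, as permutations of nine points. -/
def blk : Perm (Fin 3) →* Perm (Fin 9) where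
  toFun π := (finProdFinEquiv (m := 3) (n := 3)).permCongr (Equiv.prodCongr π (Equiv.refl _))
  map_one' := by decide +kernel
  map_mul' := by decide +kernel

theorem emb_compat : ∀ (π : Perm (Fin 3)) (σ : Tri),
    emb (moveHom π σ) = blk π * emb σ * (blk π)⁻¹ := by decide +kernel

/-- The action on nine points. -/
def emb9 : W →* Perm (Fin 9) :=
  (SemidirectProduct.lift emb blk fun π => MonoidHom.ext fun σ => by
    simpa [MulAut.conj_apply] using emb_compat π σ).comp decEquiv.toMonoidHom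

theorem emb9_eq_one : ∀ w : W, emb9 w = 1 → w = 1 := by decide +kernel

theorem emb9_injective : Function.Injective emb9 :=
  (injective_iff_map_eq_one _).2 emb9_eq_one

/-- The parity of a triple. -/
def triSign : Tri →* ℤˣ where
  toFun σ := Perm.sign (co 0 σ) * Perm.sign (co 1 σ) * Perm.sign (co 2 σ)
  map_one' := by simp [Higman3.co_one']
  map_mul' σ τ := by simp only [Higman3.co_mul, map_mul]; ac_rfl

theorem triSign_compat : ∀ (π : Perm (Fin 3)) (σ : Tri), triSign (moveHom π σ) = triSign σ := by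
  decide +kernel

/-- The parity. -/
def parity : W →* ℤˣ :=
  (SemidirectProduct.lift triSign Perm.sign fun π => MonoidHom.ext fun σ => by
    simp only [MonoidHom.comp_apply, MulEquiv.coe_toMonoidHom, MulAut.conj_apply, triSign_compat π σ]; rw [mul_comm (Perm.sign π), mul_inv_cancel_right]).comp decEquiv.toMonoidHom

theorem even_iff (w : W) : Even' w ↔ parity w = 1 := by
  have e : parity w = triSign w.left * Perm.sign w.right := rfl
  have h : ((parity w : ℤˣ) : ℤ) = sgW 0 w * sgW 1 w * sgW 2 w * sgn w := by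
    rw [e, Units.val_mul]
    have h1 : ((triSign w.left : ℤˣ) : ℤ) = sg 0 w.left * sg 1 w.left * sg 2 w.left := by
      simp [triSign, sg]
    rw [h1, sg_left, sg_left, sg_left, sign_right]
    rfl
  rw [Even', ← h, Units.val_eq_one]

/-- The even elements as a subgroup. -/
def kSub : Subgroup W := parity.ker

theorem mem_kSub {w : W} : w ∈ kSub ↔ w ∈ kSet := by
  rw [mem_kSet, even_iff, kSub, MonoidHom.mem_ker]

/-- A triple as an element. -/
def inlW : Tri →* W := decEquiv.symm.toMonoidHom.comp SemidirectProduct.inl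

theorem inlW_gens : inlW Higman3.tA = gA0 ∧ inlW Higman3.tB = gB0 ∧ inlW Higman3.tC = gC0 ∧
    inlW Higman3.tD = flip01 ∧ inlW Higman3.tE = cyc⁻¹ * flip01 * cyc := by decide +kernel

theorem gens_eq :
    emb9 gA0 = swap (0 : Fin 9) 1 * swap 1 2 ∧
      emb9 cyc = swap (0 : Fin 9) 3 * swap 3 6 * (swap (1 : Fin 9) 4 * swap 4 7) *
        (swap (2 : Fin 9) 5 * swap 5 8) ∧
      emb9 flip01 = swap (0 : Fin 9) 1 * swap 3 4 ∧
      emb9 swapFlip = swap (0 : Fin 9) 3 * swap 1 4 * swap 2 5 * swap 6 7 := by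
  decide +kernel

theorem gens_even : Even' gA0 ∧ Even' cyc ∧ Even' flip01 ∧ Even' swapFlip := by decide +kernel

theorem base_gens : gB0 = cyc * gA0 * cyc⁻¹ ∧ gC0 = cyc⁻¹ * gA0 * cyc := by decide +kernel

theorem top_decomp : ∀ w ∈ kSet, ∃ (i : Fin 3) (j : Fin 2),
    pN (w * (cyc ^ (i : ℕ) * swapFlip ^ (j : ℕ))) = 0 ∧ sgn w = if j = 0 then 1 else -1 := by
  decide +kernel

theorem left_even {w : W} (hw : w ∈ kSet) (h1 : pN w = 0) : w.left ∈ evenSet := by
  rw [Higman3.mem_evenSet, sg_left, sg_left, sg_left]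
  have h := mem_kSet.1 hw
  rw [Even', sgn, h1, s6, if_pos rfl, mul_one] at h
  exact h

theorem mem_base {P : Subgroup W} (hA : gA0 ∈ P) (hD : flip01 ∈ P) (hB : gB0 ∈ P)
    (hC : gC0 ∈ P) (hE : cyc⁻¹ * flip01 * cyc ∈ P) {w : W} (hw : w ∈ kSet)
    (hw1 : pN w = 0) : w ∈ P := by
  have hσ := left_even hw hw1
  obtain ⟨iA, iB, iC, iD, iE⟩ := inlW_gens
  obtain ⟨u, v, huv⟩ := Higman3.full_decomp _ hσ
  obtain ⟨mA, mB, mC, mD, mE⟩ := Higman3.gens_mem
  obtain ⟨x, y, z, hxyz⟩ := Higman3.cube_decomp _ (evenSub.mul_mem hσ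
    (evenSub.mul_mem (evenSub.pow_mem mD _) (evenSub.pow_mem mE _))) huv
  rw [← eq_mul_inv_iff_mul_eq] at hxyz
  have e : w = inlW w.left := by
    apply decEquiv.injective
    show dec w = decEquiv (decEquiv.symm (SemidirectProduct.inl w.left))
    rw [MulEquiv.apply_symm_apply]
    exact SemidirectProduct.ext rfl ((right_eq_one w).2 hw1)
  rw [e, hxyz]
  simp only [map_mul, map_inv, map_pow, iA, iB, iC, iD, iE]
  exact mul_mem (mul_mem (mul_mem (pow_mem hA _) (pow_mem hB _)) (pow_mem hC _))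
    (inv_mem (mul_mem (pow_mem hD _) (pow_mem hE _)))

theorem kSub_le {P : Subgroup W} (hA : gA0 ∈ P) (hc : cyc ∈ P) (hD : flip01 ∈ P)
    (hs : swapFlip ∈ P) : kSub ≤ P := by
  intro w hw
  obtain ⟨i, j, hij, -⟩ := top_decomp w (mem_kSub.1 hw)
  obtain ⟨eB, eC⟩ := base_gens
  obtain ⟨-, mc, -, ms⟩ := gens_even
  have hm : w * (cyc ^ (i : ℕ) * swapFlip ^ (j : ℕ)) ∈ P := by
    refine mem_base hA hD ?_ ?_ ?_ (mem_kSub.1 (kSub.mul_mem hw (kSub.mul_mem
      (kSub.pow_mem ((even_iff _).1 mc) _) (kSub.pow_mem ((even_iff _).1 ms) _)))) hij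
    · rw [eB]; exact mul_mem (mul_mem hc hA) (inv_mem hc)
    · rw [eC]; exact mul_mem (mul_mem (inv_mem hc) hA) hc
    · exact mul_mem (mul_mem (inv_mem hc) hD) hc
  exact (P.mul_mem_cancel_right (mul_mem (pow_mem hc _) (pow_mem hs _))).1 hm

theorem closure_eq :
    Subgroup.closure ({swap (0 : Fin 9) 1 * swap 1 2,
      swap (0 : Fin 9) 3 * swap 3 6 * (swap (1 : Fin 9) 4 * swap 4 7) *
        (swap (2 : Fin 9) 5 * swap 5 8),
      swap (0 : Fin 9) 1 * swap 3 4, swap (0 : Fin 9) 3 * swap 1 4 * swap 2 5 * swap 6 7} :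
        Set (Perm (Fin 9))) = kSub.map emb9 := by
  obtain ⟨e1, e2, e3, e4⟩ := gens_eq
  obtain ⟨m1, m2, m3, m4⟩ := gens_even
  rw [← e1, ← e2, ← e3, ← e4]
  apply le_antisymm
  · rw [Subgroup.closure_le]
    rintro _ (rfl | rfl | rfl | rfl)
    exacts [⟨_, (even_iff _).1 m1, rfl⟩, ⟨_, (even_iff _).1 m2, rfl⟩, ⟨_, (even_iff _).1 m3, rfl⟩,
      ⟨_, (even_iff _).1 m4, rfl⟩]
  · rw [Subgroup.map_le_iff_le_comap]
    apply kSub_le <;> exact Subgroup.subset_closure (by simp)

variable {G : Type*} [Group G]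

/-- An isomorphism of `H` with the even monomial triples. -/
structure Model (H : Subgroup G) where
  /-- The map. -/
  psi : H →* W
  inj : Function.Injective psi
  range : ∀ w, w ∈ kSet ↔ ∃ h, psi h = w

theorem nonempty_model {H : Subgroup G}
    (hH : Nonempty (↥H ≃* ↥(Subgroup.closure ({swap (0 : Fin 9) 1 * swap 1 2,
      swap (0 : Fin 9) 3 * swap 3 6 * (swap (1 : Fin 9) 4 * swap 4 7) *
        (swap (2 : Fin 9) 5 * swap 5 8),
      swap (0 : Fin 9) 1 * swap 3 4, swap (0 : Fin 9) 3 * swap 1 4 * swap 2 5 * swap 6 7} :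
        Set (Perm (Fin 9)))))) : Nonempty (Model H) := by
  rw [closure_eq] at hH
  obtain ⟨e⟩ := hH
  let f := e.trans (kSub.equivMapOfInjective emb9 emb9_injective).symm
  refine ⟨⟨kSub.subtype.comp f.toMonoidHom, kSub.subtype_injective.comp f.injective,
    fun w => ⟨fun hw => ⟨f.symm ⟨w, mem_kSub.2 hw⟩, by simp⟩, ?_⟩⟩⟩
  rintro ⟨h, rfl⟩
  exact mem_kSub.1 (f h).2

namespace Model

variable {H : Subgroup G} (M : Model H)

theorem mem (h : H) : M.psi h ∈ kSet := (M.range _).2 ⟨h, rfl⟩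

theorem sum_eq {A : Type*} [AddCommMonoid A] [Fintype H] (F : W → A) :
    ∑ h : H, F (M.psi h) = ∑ w ∈ kSet, F w := by
  classical
  refine Finset.sum_bij (fun h _ => M.psi h) (fun h _ => M.mem h) (fun a _ b _ e => M.inj e)
    (fun w hw => ?_) (fun _ _ => rfl)
  obtain ⟨h, rfl⟩ := (M.range w).1 hw
  exact ⟨h, Finset.mem_univ _, rfl⟩

include M in
theorem card_eq [Fintype H] : Nat.card H = 648 := by
  rw [Nat.card_eq_fintype_card, Fintype.card_eq_sum_ones, M.sum_eq (fun _ => (1 : ℕ))]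
  decide +kernel

theorem pow_eq_one_iff (h : H) (n : ℕ) : M.psi h ^ n = 1 ↔ h ^ n = 1 := by
  rw [← map_pow, map_eq_one_iff _ M.inj]

theorem psi_eq_one_iff (h : H) : M.psi h = 1 ↔ (h : G) = 1 := by
  rw [map_eq_one_iff _ M.inj]
  exact ⟨fun e => by rw [e]; rfl, fun e => Subtype.ext e⟩

end Model

end Cfsg.Agent.Lib.Higman4
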