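import Mathlib
import Cfsg.Agent.Lib.Higman4.Transport

/-!
Facts about the group of even monomial triples checked on its elements.
-/

set_option autoImplicit false

namespace Cfsg.Agent.Lib.Higman4

open Equiv

/-- The elements of the group of order 27. -/
def jSet : Finset W := kSet.filter InJ

/-- An element of order three moving one block only. -/
def zW : W := gC0
/-- An element of order three moving two blocks. -/
def z2W : W := gA0 * gB0

theorem jSet_mul : ∀ u ∈ jSet, ∀ v ∈ jSet, InJ (u * v) ∧ u * v = v * u := by decide +kernel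

theorem jSet_cube : (∀ u ∈ jSet, u ^ 3 = 1) ∧ jSet.card = 27 := by decide +kernel

theorem jSet_conj : ∀ u ∈ jSet, ∀ w ∈ kSet, InJ (w * u * w⁻¹) := by decide +kernel

theorem three_outside : ∀ w ∈ kSet, w ^ 81 = 1 → ¬InJ w →
    (w * flip01 * w⁻¹ * flip01⁻¹) ^ 81 ≠ 1 := by decide +kernel

theorem cent_count : ∀ u ∈ jSet, u ≠ 1 → (kSet.filter fun v => v * u = u * v).card = 108 →
    ∃ γ ∈ kSet, γ * u = zW * γ := by decide +kernel

theorem z_facts : (InJ zW ∧ InJ z2W ∧ zW ≠ 1 ∧ z2W ≠ 1 ∧ Even' zW ∧ Even' z2W) ∧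
    (zW * flip01 = flip01 * zW ∧ z2W * swapFlip = swapFlip * z2W) ∧
    (kSet.filter fun v => v * zW = zW * v).card = 108 := by decide +kernel

theorem z_not_conj : ∀ γ ∈ kSet, γ * z2W ≠ zW * γ ∧ γ * z2W ≠ zW * zW * γ := by decide +kernel

theorem three_cent : ∀ v ∈ kSet, v * zW = zW * v → v * flip01 = flip01 * v → v ^ 81 = 1 →
    v = 1 ∨ v = zW ∨ v = zW * zW := by decide +kernel

theorem invol_cases : ∀ w ∈ kSet, w ≠ 1 → w * w = 1 →
    (pN w = 0 → ∃ γ ∈ kSet, γ * flip01 = w * γ) ∧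
      (pN w ≠ 0 → ∃ γ ∈ kSet, γ * swapFlip = w * γ) := by decide +kernel

theorem invol_basic : (Even' flip01 ∧ flip01 ≠ 1 ∧ flip01 * flip01 = 1 ∧ pN flip01 = 0) ∧
    (Even' swapFlip ∧ swapFlip ≠ 1 ∧ swapFlip * swapFlip = 1 ∧ pN swapFlip ≠ 0) := by
  decide +kernel

theorem commutators : gA0 = flip01 * gA0 * flip01⁻¹ * gA0⁻¹ ∧
    flip01 = cyc * (cyc * flip01 * cyc⁻¹) * cyc⁻¹ * (cyc * flip01 * cyc⁻¹)⁻¹ ∧
    pN (swapFlip * cyc * swapFlip⁻¹ * cyc) = 0 ∧ cyc ^ 3 = 1 := by decide +kernel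

theorem right_cases : ∀ w ∈ kSet, pN w ≠ 0 →
    (sgn w = 1 → pN (w * cyc) = 0 ∨ pN (w * cyc⁻¹) = 0) ∧
      (sgn w ≠ 1 → pN (w * cyc * w⁻¹ * cyc⁻¹) ≠ 0 ∧ sgn (w * cyc * w⁻¹ * cyc⁻¹) = 1) := by
  decide +kernel

theorem sign_sums : (∑ w ∈ kSet.filter (fun w => sgn w = 1), gC w = 0) ∧
    (∑ w ∈ kSet.filter (fun w => sgn w = 1), gD w = 0) := by decide +kernel

/-- A subgroup containing the base and the block cycle contains the elements permuting the blocks
evenly, and the other elements times the block transposition. -/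
theorem mem_of_base_cyc {P : Subgroup W} (hb : ∀ w ∈ kSet, pN w = 0 → w ∈ P) (hc : cyc ∈ P)
    {w : W} (hw : w ∈ kSet) :
    (sgn w = 1 → w ∈ P) ∧ (sgn w ≠ 1 → w * swapFlip ∈ P) := by
  obtain ⟨i, j, hij, hs⟩ := top_decomp w hw
  obtain ⟨-, mc, -, ms⟩ := gens_even
  have hm : w * (cyc ^ (i : ℕ) * swapFlip ^ (j : ℕ)) ∈ P :=
    hb _ (mem_kSub.1 (kSub.mul_mem (mem_kSub.2 hw) (kSub.mul_mem
      (kSub.pow_mem ((even_iff _).1 mc) _) (kSub.pow_mem ((even_iff _).1 ms) _)))) hij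
  fin_cases j
  · refine ⟨fun _ => ?_, fun h => absurd (by simpa using hs) h⟩
    simp only [pow_zero, mul_one] at hm
    exact (P.mul_mem_cancel_right (pow_mem hc _)).1 hm
  · refine ⟨fun h => ?_, fun _ => ?_⟩
    · rw [h] at hs; simp at hs
    · simp only [pow_one] at hm
      rcases (show (i : ℕ) = 0 ∨ (i : ℕ) = 1 ∨ (i : ℕ) = 2 by omega) with e | e | e <;>
        rw [e] at hm
      · simpa using hm
      all_goals
        obtain ⟨-, -, hv, -⟩ := commutators
        have hsc : swapFlip * cyc * swapFlip⁻¹ ∈ P := by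
          refine (P.mul_mem_cancel_right hc).1 (hb _ ?_ hv)
          exact mem_kSub.1 (kSub.mul_mem (kSub.mul_mem (kSub.mul_mem ((even_iff _).1 ms)
            ((even_iff _).1 mc)) (kSub.inv_mem ((even_iff _).1 ms))) ((even_iff _).1 mc))
        have hrw : ∀ n : ℕ, w * (cyc ^ n * swapFlip) =
            w * swapFlip * (swapFlip⁻¹ * cyc * swapFlip) ^ n := fun n => by
          rw [show swapFlip⁻¹ * cyc * swapFlip = MulAut.conj swapFlip⁻¹ cyc from by simp,
            ← map_pow]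
          simp [mul_assoc]
        have hsinv : swapFlip⁻¹ = swapFlip := inv_eq_of_mul_eq_one_right invol_basic.2.2.2.1
        rw [hrw] at hm
        refine (P.mul_mem_cancel_right (pow_mem ?_ _)).1 hm
        rw [hsinv]
        rw [hsinv] at hsc
        exact hsc

end Cfsg.Agent.Lib.Higman4
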