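import Mathlib
import Cfsg.Prelude
import Cfsg.Agent.Lib.Higman4.Facts
import Cfsg.Agent.Lib.Higman3.TI

/-!
The trivial intersection set; the two classes of involutions are not fused.
-/

set_option autoImplicit false

namespace Cfsg.Agent.Lib.Higman4

open Cfsg Cfsg.Agent.Lib

variable {G : Type*} [Group G] {H : Subgroup G}

/-- The elements of `H` with a power in `J` other than one. -/
def powSet (H J : Subgroup G) : Set G :=
  {g | g ∈ H ∧ ((g ^ 4 ∈ J ∧ g ^ 4 ≠ 1) ∨ (g ^ 3 ∈ J ∧ g ^ 3 ≠ 1))}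

/-- What is known about the subgroup of order 27. -/
structure JData (M : Model H) (J : Subgroup G) : Prop where
  le : J ≤ H
  mem_iff : ∀ h : H, (h : G) ∈ J ↔ InJ (M.psi h)
  closed : ∀ x ∈ J, ∀ g : G, g * x * g⁻¹ ∈ H → g * x * g⁻¹ ∈ J
  cent : ∀ j ∈ J, j ≠ 1 → Subgroup.centralizer ({j} : Set G) ≤ H

theorem mem_jSet {w : W} (hw : w ∈ kSet) (h : InJ w) : w ∈ jSet := Finset.mem_filter.2 ⟨hw, h⟩

namespace Model

variable (M : Model H)

theorem pow_81_of_pGroup [Finite G] (P : Subgroup G) (hP : IsPGroup 3 P) (h : H)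
    (hh : (h : G) ∈ P) : M.psi h ^ 81 = 1 := by
  haveI := Fintype.ofFinite H
  rw [M.pow_eq_one_iff, ← orderOf_dvd_iff_pow_eq_one]
  obtain ⟨k, hk⟩ := hP ⟨(h : G), hh⟩
  have hk' : orderOf h ∣ 3 ^ k := orderOf_dvd_of_pow_eq_one (Subtype.ext (congrArg Subtype.val hk :))
  have h648 : orderOf h ∣ 2 ^ 3 * 81 := by
    have := orderOf_dvd_natCard h
    rw [M.card_eq] at this
    exact this
  refine Nat.Coprime.dvd_of_dvd_mul_left ?_ h648
  exact Nat.Coprime.coprime_dvd_left hk' (Nat.Coprime.pow _ _ (by norm_num))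

theorem pCore_eq [Finite G] (h : H) : h ∈ pCore 3 H ↔ InJ (M.psi h) := by
  obtain ⟨mulJ, conjJ⟩ := And.intro jSet_mul jSet_conj
  have hin : ∀ h : H, InJ (M.psi h) → M.psi h ∈ jSet := fun h hj => mem_jSet (M.mem h) hj
  let S : Submonoid H :=
    { carrier := {h | InJ (M.psi h)}
      one_mem' := by
        show InJ (M.psi 1)
        rw [map_one]; decide +kernel
      mul_mem' := fun {a b} ha hb => by
        show InJ (M.psi (a * b))
        rw [map_mul]; exact (mulJ _ (hin a ha) _ (hin b hb)).1 }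
  let T : Subgroup H :=
    { S with
      inv_mem' := fun {a} ha => by
        have e' : a⁻¹ = a ^ 2 := inv_eq_of_mul_eq_one_right (by
          rw [← pow_succ']
          exact (M.pow_eq_one_iff a 3).1 (jSet_cube.1 _ (hin a ha)))
        rw [e']; exact S.pow_mem ha _ }
  have hT : pCore 3 H = T := by
    refine le_antisymm (sSup_le ?_) (le_sSup ⟨⟨fun n hn g => ?_⟩, fun x => ⟨1, ?_⟩⟩)
    · rintro N ⟨hN, hp⟩ x hx
      by_contra hxT
      obtain ⟨f, hf⟩ := (M.range flip01).1 (Finset.mem_filter.2 ⟨Finset.mem_univ _, gens_even.2.2.1⟩)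
      refine three_outside _ (M.mem x) ?_ hxT ?_
      · exact M.pow_81_of_pGroup (N.map H.subtype) (hp.map _) x ⟨x, hx, rfl⟩
      · have hc : x * f * x⁻¹ * f⁻¹ ∈ N := by
          have := N.mul_mem hx (hN.conj_mem _ (N.inv_mem hx) f)
          simpa [mul_assoc] using this
        have := M.pow_81_of_pGroup (N.map H.subtype) (hp.map _) (x * f * x⁻¹ * f⁻¹) ⟨_, hc, rfl⟩
        simpa [hf] using this
    · show InJ (M.psi (g * n * g⁻¹))
      rw [map_mul, map_mul, map_inv]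
      exact conjJ _ (hin n hn) _ (M.mem g)
    · rw [pow_one]
      exact Subtype.ext ((M.pow_eq_one_iff _ 3).1 (jSet_cube.1 _ (hin _ x.2)))
  rw [hT]
  rfl

theorem jData [Finite G] {J : Subgroup G} (hJ : J = (pCore 3 H).map H.subtype)
    (hC : ∀ j ∈ J, j ≠ 1 → Subgroup.centralizer ({j} : Set G) ≤ H) (hsc : IsStronglyClosed J H) :
    JData M J where
  le := hsc.1
  mem_iff h := by
    rw [← M.pCore_eq, hJ]
    exact ⟨fun ⟨x, hx, e⟩ => Subtype.ext e ▸ hx, fun hh => ⟨h, hh, rfl⟩⟩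
  closed := hsc.2
  cent := hC

variable {M} {J : Subgroup G}

theorem jData_psi (D : JData M J) {s : G} (hs : s ∈ J) : M.psi ⟨s, D.le hs⟩ ∈ jSet :=
  mem_jSet (M.mem _) ((D.mem_iff ⟨s, D.le hs⟩).1 hs)

theorem J_comm (D : JData M J) {s t : G} (hs : s ∈ J) (ht : t ∈ J) : s * t = t * s := by
  have := M.inj (a₁ := ⟨s, D.le hs⟩ * ⟨t, D.le ht⟩) (a₂ := ⟨t, D.le ht⟩ * ⟨s, D.le hs⟩) (by
    rw [map_mul, map_mul]; exact (jSet_mul _ (jData_psi D hs) _ (jData_psi D ht)).2)
  exact congrArg Subtype.val this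

theorem card_cent [Finite G] (D : JData M J) {j : G} (hj : j ∈ J) (hj1 : j ≠ 1) :
    Nat.card {g : G // g * j = j * g} =
      (kSet.filter fun v => v * M.psi ⟨j, D.le hj⟩ = M.psi ⟨j, D.le hj⟩ * v).card := by
  rw [← Nat.card_eq_finsetCard]
  refine Nat.card_eq_of_bijective (fun g => ⟨M.psi ⟨g.1,
    D.cent j hj hj1 (Subgroup.mem_centralizer_singleton_iff.2 g.2)⟩, Finset.mem_filter.2 ⟨M.mem _,
      by rw [← map_mul, ← map_mul]; exact congrArg M.psi (Subtype.ext g.2)⟩⟩) ⟨?_, ?_⟩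
  · intro g g' e
    have := M.inj (congrArg Subtype.val e :)
    exact Subtype.ext (congrArg Subtype.val this :)
  · rintro ⟨w, hw⟩
    obtain ⟨hw1, hw2⟩ := Finset.mem_filter.1 hw
    obtain ⟨h, rfl⟩ := (M.range w).1 hw1
    refine ⟨⟨h, ?_⟩, rfl⟩
    have := M.inj (a₁ := h * ⟨j, D.le hj⟩) (a₂ := ⟨j, D.le hj⟩ * h) (by rw [map_mul, map_mul, hw2])
    exact congrArg Subtype.val this

/-- The distinguished element of order three. -/
theorem exists_z (D : JData M J) : ∃ z : H, M.psi z = zW ∧ (z : G) ∈ J ∧ (z : G) ≠ 1 := by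
  obtain ⟨⟨hz, -, hz1, -, hze, -⟩, -, -⟩ := z_facts
  obtain ⟨z, e⟩ := (M.range zW).1 (Finset.mem_filter.2 ⟨Finset.mem_univ _, hze⟩)
  exact ⟨z, e, (D.mem_iff z).2 (by rw [e]; exact hz), fun h => hz1 (by
    rw [← e]; exact (M.psi_eq_one_iff z).2 h)⟩

theorem normalizer_eq [Finite G] (D : JData M J) : Subgroup.normalizer (J : Set G) = H := by
  apply le_antisymm
  · intro g hg
    obtain ⟨z, hz, hzJ, hz1⟩ := exists_z D
    have hz'J : g * z * g⁻¹ ∈ J := (Subgroup.mem_normalizer_iff.1 hg _).1 hzJ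
    have hz'1 : g * z * g⁻¹ ≠ 1 := fun e => hz1 (by simpa using e)
    have hcard : Nat.card {x : G // x * (g * z * g⁻¹) = (g * z * g⁻¹) * x} =
        Nat.card {x : G // x * (z : G) = z * x} := by
      refine Nat.card_congr ⟨fun x => ⟨g⁻¹ * x.1 * g, ?_⟩, fun x => ⟨g * x.1 * g⁻¹, ?_⟩,
        fun x => Subtype.ext (by group), fun x => Subtype.ext (by group)⟩
      · calc g⁻¹ * x.1 * g * z = g⁻¹ * (x.1 * (g * z * g⁻¹)) * g := by group
          _ = g⁻¹ * (g * z * g⁻¹ * x.1) * g := by rw [x.2]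
          _ = z * (g⁻¹ * x.1 * g) := by group
      · calc g * x.1 * g⁻¹ * (g * z * g⁻¹) = g * (x.1 * z) * g⁻¹ := by group
          _ = g * (z * x.1) * g⁻¹ := by rw [x.2]
          _ = g * z * g⁻¹ * (g * x.1 * g⁻¹) := by group
    rw [card_cent D hz'J hz'1, card_cent D hzJ hz1] at hcard
    have h108 : (kSet.filter fun v => v * M.psi z = M.psi z * v).card = 108 := by
      rw [hz]; exact z_facts.2.2
    rw [show (⟨(z : G), D.le hzJ⟩ : H) = z from rfl, h108] at hcard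
    obtain ⟨γ, hγ, e⟩ := cent_count _ (jData_psi D hz'J)
      (fun e => hz'1 ((M.psi_eq_one_iff _).1 e)) hcard
    obtain ⟨c, rfl⟩ := (M.range γ).1 hγ
    rw [← hz, ← map_mul, ← map_mul] at e
    have e' : (c : G) * (g * z * g⁻¹) = z * c := congrArg Subtype.val (M.inj e)
    have hmem : (c : G) * g ∈ H := by
      refine D.cent _ hzJ hz1 (Subgroup.mem_centralizer_singleton_iff.2 ?_)
      calc (c : G) * g * z = (c : G) * (g * z * g⁻¹) * g := by group
        _ = z * c * g := by rw [e']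
        _ = z * ((c : G) * g) := by group
    simpa using H.mul_mem (H.inv_mem c.2) hmem
  · intro g hg
    refine Subgroup.mem_normalizer_fintype fun s hs => ?_
    refine D.closed s hs g (H.mul_mem (H.mul_mem hg (D.le hs)) (H.inv_mem hg))

theorem controlled [Finite G] (D : JData M J) : Higman3.ControlledSet H (powSet H J) where
  subset _ h := h.1
  inv_mem a ha := ⟨H.inv_mem ha.1, by
    rcases ha.2 with ⟨h1, h2⟩ | ⟨h1, h2⟩
    · exact Or.inl ⟨by rw [inv_pow]; exact J.inv_mem h1, by simpa using h2⟩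
    · exact Or.inr ⟨by rw [inv_pow]; exact J.inv_mem h1, by simpa using h2⟩⟩
  fusion a ha g hg := by
    obtain ⟨m, htJ, ht1⟩ : ∃ m : ℕ, a ^ m ∈ J ∧ a ^ m ≠ 1 := by
      rcases ha.2 with h | h
      exacts [⟨4, h⟩, ⟨3, h⟩]
    have e : (g * a * g⁻¹) ^ m = g * a ^ m * g⁻¹ := conj_pow
    have ht' : g * a ^ m * g⁻¹ ∈ J := D.closed _ htJ g (e ▸ H.pow_mem hg.1 m)
    rw [← normalizer_eq D]
    have hg' : g⁻¹ ∈ Subgroup.normalizer (J : Set G) := by
      refine Subgroup.mem_normalizer_fintype fun s hs => D.closed s hs g⁻¹ ?_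
      refine D.cent _ htJ ht1 (Subgroup.mem_centralizer_singleton_iff.2 ?_)
      have h1 := J_comm D hs ht'
      calc g⁻¹ * s * g⁻¹⁻¹ * a ^ m = g⁻¹ * (s * (g * a ^ m * g⁻¹)) * g := by group
        _ = g⁻¹ * (g * a ^ m * g⁻¹ * s) * g := by rw [h1]
        _ = a ^ m * (g⁻¹ * s * g⁻¹⁻¹) := by group
    simpa using inv_mem hg'

theorem not_conj [Finite G] (D : JData M J) {a b : H} (ha : M.psi a = flip01)
    (hb : M.psi b = swapFlip) : ¬IsConj (a : G) b := by
  intro hab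
  obtain ⟨g, hg⟩ := isConj_iff.1 hab
  haveI : Fact (Nat.Prime 3) := ⟨by norm_num⟩
  obtain ⟨z, hz, hzJ, hz1⟩ := exists_z D
  obtain ⟨⟨-, hw2, -, hw21, -, hwe⟩, ⟨hza, hwb⟩, -⟩ := z_facts
  obtain ⟨w, hw⟩ := (M.range z2W).1 (Finset.mem_filter.2 ⟨Finset.mem_univ _, hwe⟩)
  have hwJ : (w : G) ∈ J := (D.mem_iff w).2 (by rw [hw]; exact hw2)
  have hcube : ∀ s : G, s ∈ J → s ^ 3 = 1 := fun s hs =>
    congrArg Subtype.val ((M.pow_eq_one_iff ⟨s, D.le hs⟩ 3).1 (jSet_cube.1 _ (jData_psi D hs)))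
  let C := Subgroup.centralizer ({(a : G)} : Set G)
  have hzC : (z : G) ∈ C := Subgroup.mem_centralizer_singleton_iff.2
    (congrArg Subtype.val (M.inj (a₁ := z * a) (a₂ := a * z) (by rw [map_mul, map_mul, hz, ha, hza])))
  have hwb' : (w : G) * b = b * w :=
    congrArg Subtype.val (M.inj (a₁ := w * b) (a₂ := b * w) (by rw [map_mul, map_mul, hw, hb, hwb]))
  have hwC : g⁻¹ * w * g ∈ C := by
    refine Subgroup.mem_centralizer_singleton_iff.2 ?_
    calc g⁻¹ * w * g * a = g⁻¹ * (w * (g * a * g⁻¹)) * g := by group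
      _ = g⁻¹ * (g * a * g⁻¹ * w) * g := by rw [hg, hwb']
      _ = a * (g⁻¹ * w * g) := by group
  have hzpow : IsPGroup 3 (Subgroup.zpowers (⟨z, hzC⟩ : C)) := by
    refine IsPGroup.of_card (n := 1) ?_
    rw [Nat.card_zpowers, pow_one]
    exact orderOf_eq_prime (Subtype.ext (hcube _ hzJ)) fun e => hz1 (congrArg Subtype.val e :)
  obtain ⟨P, hzP⟩ := hzpow.exists_le_sylow
  replace hzP : (⟨z, hzC⟩ : C) ∈ P := hzP (Subgroup.mem_zpowers _)
  have key : ∀ y : C, y ∈ P → (y : G) * z = z * y →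
      (y : G) = 1 ∨ (y : G) = z ∨ (y : G) = z * z := by
    intro y hy hyz
    have hyH : (y : G) ∈ H :=
      D.cent _ hzJ hz1 (Subgroup.mem_centralizer_singleton_iff.2 hyz)
    have hya : (y : G) * a = a * y := Subgroup.mem_centralizer_singleton_iff.1 y.2
    rcases three_cent (M.psi ⟨y, hyH⟩) (M.mem _)
        (by rw [← hz, ← map_mul, ← map_mul]; exact congrArg M.psi (Subtype.ext hyz))
        (by rw [← ha, ← map_mul, ← map_mul]; exact congrArg M.psi (Subtype.ext hya))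
        (M.pow_81_of_pGroup ((P : Subgroup C).map C.subtype) (P.2.map _) ⟨y, hyH⟩ ⟨y, hy, rfl⟩)
      with e | e | e
    · exact Or.inl ((M.psi_eq_one_iff _).1 e)
    · exact Or.inr (Or.inl (congrArg Subtype.val (M.inj (e.trans hz.symm)) :))
    · refine Or.inr (Or.inr ?_)
      have := M.inj (a₁ := ⟨y, hyH⟩) (a₂ := z * z) (by rw [e, map_mul, hz])
      exact (congrArg Subtype.val this :)
  have hcent : ∀ y : C, y ∈ P → (y : G) * z = z * y := by
    haveI : Nontrivial (P : Subgroup C) :=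
      ⟨⟨⟨_, hzP⟩, 1, fun e => hz1 (congrArg (fun x : (P : Subgroup C) => ((x : C) : G)) e :)⟩⟩
    haveI := P.2.center_nontrivial
    obtain ⟨⟨y, hy⟩, hy1⟩ := exists_ne (1 : Subgroup.center (P : Subgroup C))
    have hcomm : ∀ x : C, x ∈ P → (x : G) * ((y : C) : G) = ((y : C) : G) * x := fun x hx =>
      congrArg (fun x : (P : Subgroup C) => ((x : C) : G)) (Subgroup.mem_center_iff.1 hy ⟨x, hx⟩)
    intro x hx
    rcases key y y.2 ((hcomm _ hzP).symm) with e | e | e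
    · exact absurd (Subtype.ext (Subtype.ext (Subtype.ext e))) hy1
    · have := hcomm x hx
      rwa [e] at this
    · have h := hcomm x hx
      rw [e] at h
      have h3 := hcube _ hzJ
      have hzz : (z : G) = (z * z) * (z * z) := by
        calc (z : G) = z ^ 3 * z := by rw [h3, one_mul]
          _ = z * z * (z * z) := by rw [pow_succ, pow_two]; group
      rw [hzz, ← mul_assoc, h, mul_assoc, h, ← mul_assoc]
  have hPle : ∀ y : C, y ∈ P → (y : G) = 1 ∨ (y : G) = z ∨ (y : G) = z * z := fun y hy =>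
    key y hy (hcent y hy)
  have hw'pow : IsPGroup 3 (Subgroup.zpowers (⟨g⁻¹ * w * g, hwC⟩ : C)) := by
    refine IsPGroup.of_card (n := 1) ?_
    rw [Nat.card_zpowers, pow_one]
    refine orderOf_eq_prime (Subtype.ext ?_) fun e => ?_
    · show (g⁻¹ * w * g) ^ 3 = 1
      calc (g⁻¹ * (w : G) * g) ^ 3 = g⁻¹ * (w : G) ^ 3 * g := by simp [pow_succ, mul_assoc]
        _ = 1 := by rw [hcube _ hwJ]; group
    · have : g⁻¹ * (w : G) * g = 1 := congrArg Subtype.val e
      have hw1 : (w : G) = 1 := by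
        calc (w : G) = g * (g⁻¹ * w * g) * g⁻¹ := by group
          _ = 1 := by rw [this]; group
      exact hw21 (hw ▸ (M.psi_eq_one_iff w).2 hw1)
  obtain ⟨Q, hQ⟩ := hw'pow.exists_le_sylow
  obtain ⟨c, hc⟩ := MulAction.exists_smul_eq C Q P
  have hmem : c * ⟨g⁻¹ * w * g, hwC⟩ * c⁻¹ ∈ P := by
    rw [← hc]
    exact ⟨_, hQ (Subgroup.mem_zpowers _), rfl⟩
  have hv := hPle _ hmem
  set x : G := (c : G) * g⁻¹ with hx
  have hxe : ((c * ⟨g⁻¹ * w * g, hwC⟩ * c⁻¹ : C) : G) = x * w * x⁻¹ := by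
    rw [hx]; simp [mul_assoc]
  rw [hxe] at hv
  have hw1 : (w : G) ≠ 1 := fun e => hw21 (hw ▸ (M.psi_eq_one_iff w).2 e)
  have hwX : ∀ s ∈ J, s ≠ 1 → s ∈ powSet H J := fun s hs hs1 => ⟨D.le hs, Or.inl (by
    have : s ^ 4 = s := by rw [pow_succ, hcube s hs, one_mul]
    rw [this]; exact ⟨hs, hs1⟩)⟩
  rcases hv with e | e | e
  · exact hw1 (by
      calc (w : G) = x⁻¹ * (x * w * x⁻¹) * x := by group
        _ = 1 := by rw [e]; group)
  all_goals
    have hxH : x ∈ H := (controlled D).fusion _ (hwX _ hwJ hw1) x (by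
      rw [e]
      first
        | exact hwX _ hzJ hz1
        | exact hwX _ (J.mul_mem hzJ hzJ) fun e' => hz1 (by
            calc (z : G) = z ^ 3 * ((z : G) * z)⁻¹ := by rw [pow_succ, pow_two]; group
              _ = 1 := by rw [hcube _ hzJ, e']; group))
    first
      | (have e3 := congrArg M.psi (Subtype.ext (mul_inv_eq_iff_eq_mul.1 e) :
            (⟨x, hxH⟩ : H) * w = z * ⟨x, hxH⟩)
         rw [map_mul, map_mul, hw, hz] at e3
         exact (z_not_conj _ (M.mem _)).1 e3)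
      | (have e3 := congrArg M.psi (Subtype.ext (mul_inv_eq_iff_eq_mul.1 e) :
            (⟨x, hxH⟩ : H) * w = z * z * ⟨x, hxH⟩)
         rw [map_mul, map_mul, map_mul, hw, hz] at e3
         exact (z_not_conj _ (M.mem _)).2 e3)

end Model

end Cfsg.Agent.Lib.Higman4
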