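import Mathlib
import Cfsg.Agent.Lib.Higman4.Transport
import Cfsg.Agent.Lib.Chars.Induced
import Cfsg.Agent.Lib.Chars.Completeness
import Cfsg.Agent.Lib.Chars.Ops

/-!
The monomial characters of the group of even monomial triples.
-/

set_option autoImplicit false

namespace Cfsg.Agent.Lib.Higman4

open Cfsg Cfsg.Agent.Lib

/-- The stabiliser of a block. -/
def InL1 (w : W) : Prop := act6 (pN w) 0 = 0

instance (w : W) : Decidable (InL1 w) := by unfold InL1; infer_instance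

/-- The exponent of the sign on the first block. -/
def e1 (w : W) : ℕ := if sgW 0 w = 1 then 0 else 6
/-- The zero exponent. -/
def e0 (_ : W) : ℕ := 0
/-- The exponent of the translation of the first block. -/
def e4t (w : W) : ℕ := 4 * tr 0 w % 12
/-- Representatives of the blocks. -/
def t1 : Fin 3 → W := fun j => cyc ^ (j : ℕ)
/-- The monomial character of the sign, by coordinates. -/
def c61 (w : W) : ℤ√3 := toZ3 (monVec InL4 e4t t4 w)

/-- What is checked about a monomial datum. -/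
def MonOK {n : ℕ} (L : W → Prop) [DecidablePred L] (e : W → ℕ) (t : Fin n → W)
    (f : W → ℤ√3) : Prop :=
  (L 1 ∧ e 1 = 0) ∧ (∀ u ∈ kSet.filter L, ∀ v ∈ kSet.filter L, L (u * v) ∧
    e (u * v) = (e u + e v) % 12) ∧ (∀ u ∈ kSet.filter L, e u < 12) ∧
    (∀ j, Even' (t j)) ∧
    (∀ w ∈ kSet, ∃ j, L ((t j)⁻¹ * w) ∧ ∀ k, L ((t k)⁻¹ * w) → k = j) ∧
    (∀ w ∈ kSet, monVec L e t w = ofZ3 (f w))

theorem mul_digits0 (x y : W) :
    cN 0 (x * y) = mul6 (cN 0 x) (cN (act6 (inv6 (pN x)) 0) y) ∧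
      pN (x * y) = mul6 (pN x) (pN y) := by
  have hm : ∀ (i j : ℕ), mul6 (cN i x) (cN j y) < 6 := fun i j =>
    ((q3_facts ⟨cN i x, cN_lt i x⟩).1 ⟨cN j y, cN_lt j y⟩).1
  obtain ⟨d0, -, -, d3⟩ := digits (hm 0 (act6 (inv6 (pN x)) 0)) (hm 1 (act6 (inv6 (pN x)) 1))
    (hm 2 (act6 (inv6 (pN x)) 2)) ((q3_facts ⟨pN x, pN_lt x⟩).1 ⟨pN y, pN_lt y⟩).1
  exact ⟨d0, d3⟩

theorem stab_zero : ∀ p q : Fin 6, (act6 p 0 = 0 → act6 (inv6 p) 0 = 0 ∧
    (act6 q 0 = 0 → act6 (mul6 p q) 0 = 0)) ∧ s6 (mul6 p q) = s6 p * s6 q ∧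
    (s6 p = 1 ∨ s6 p = -1) := by decide +kernel

theorem hom_L1 : ∀ u ∈ kSet.filter InL1, ∀ v ∈ kSet.filter InL1, InL1 (u * v) ∧
    e1 (u * v) = (e1 u + e1 v) % 12 ∧ e0 (u * v) = (e0 u + e0 v) % 12 := by
  intro u hu v hv
  have hu' : act6 (pN u) 0 = 0 := (Finset.mem_filter.1 hu).2
  have hv' : act6 (pN v) 0 = 0 := (Finset.mem_filter.1 hv).2
  obtain ⟨c0, cp⟩ := mul_digits0 u v
  obtain ⟨hz, hmul⟩ := (stab_zero ⟨pN u, pN_lt u⟩ ⟨pN v, pN_lt v⟩).1 hu'
  obtain ⟨-, hs, hu1⟩ := stab_zero ⟨cN 0 u, cN_lt 0 u⟩ ⟨cN 0 v, cN_lt 0 v⟩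
  obtain ⟨-, -, hv1⟩ := stab_zero ⟨cN 0 v, cN_lt 0 v⟩ ⟨cN 0 u, cN_lt 0 u⟩
  simp only at hz hmul hs hu1 hv1
  rw [hz] at c0
  refine ⟨by rw [InL1, cp]; exact hmul hv', ?_, rfl⟩
  simp only [e1, sgW, c0, hs]
  rcases hu1 with e | e <;> rcases hv1 with e' | e' <;> simp [e, e']

theorem hom_L4 : ∀ u ∈ kSet.filter InL4, ∀ v ∈ kSet.filter InL4, InL4 (u * v) ∧
    e4 (u * v) = (e4 u + e4 v) % 12 ∧ e4' (u * v) = (e4' u + e4' v) % 12 ∧
    e4t (u * v) = (e4t u + e4t v) % 12 := by decide +kernel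

theorem hom_L2 : ∀ u ∈ kSet.filter InL2, ∀ v ∈ kSet.filter InL2, InL2 (u * v) ∧
    e2 (u * v) = (e2 u + e2 v) % 12 := by decide +kernel

theorem hom_L3 : ∀ u ∈ kSet.filter InL3, ∀ v ∈ kSet.filter InL3, InL3 (u * v) ∧
    e3 (u * v) = (e3 u + e3 v) % 12 := by decide +kernel

theorem reps_L1 : (∀ j, Even' (t1 j)) ∧
    (∀ w ∈ kSet, ∃ j, InL1 ((t1 j)⁻¹ * w) ∧ ∀ k, InL1 ((t1 k)⁻¹ * w) → k = j) := by
  decide +kernel

theorem values_L1 : ∀ w ∈ kSet, monVec InL1 e1 t1 w = ofZ3 (c3 w : ℤ√3) ∧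
    monVec InL1 e0 t1 w = ofZ3 (cFix w : ℤ√3) ∧ monVec InL4 e4t t4 w = ofZ3 (c61 w) ∧
    gA w = (cFix w : ℤ√3) + (c3 w : ℤ√3) - c61 w := by decide +kernel

theorem ones : (InL1 1 ∧ InL4 1 ∧ InL2 1 ∧ InL3 1) ∧ e1 1 = 0 ∧ e0 1 = 0 ∧ e4 1 = 0 ∧ e4' 1 = 0 ∧
    e4t 1 = 0 ∧ e2 1 = 0 ∧ e3 1 = 0 := by decide +kernel

theorem bounds (w : W) : e1 w < 12 ∧ e0 w < 12 ∧ e4 w < 12 ∧ e4' w < 12 ∧ e4t w < 12 ∧ e2 w < 12 ∧
    e3 w < 12 := by
  refine ⟨?_, by simp [e0], Nat.mod_lt _ (by norm_num), Nat.mod_lt _ (by norm_num),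
    Nat.mod_lt _ (by norm_num), Nat.mod_lt _ (by norm_num), Nat.mod_lt _ (by norm_num)⟩
  unfold e1; split <;> norm_num

theorem ok_L1 : MonOK InL1 e1 t1 (fun w => (c3 w : ℤ√3)) ∧
    MonOK InL1 e0 t1 (fun w => (cFix w : ℤ√3)) :=
  ⟨⟨⟨ones.1.1, ones.2.1⟩, fun u hu v hv => ⟨(hom_L1 u hu v hv).1, (hom_L1 u hu v hv).2.1⟩,
      fun u _ => (bounds u).1, reps_L1.1, reps_L1.2, fun w hw => (values_L1 w hw).1⟩,
    ⟨⟨ones.1.1, ones.2.2.1⟩, fun u hu v hv => ⟨(hom_L1 u hu v hv).1, (hom_L1 u hu v hv).2.2⟩,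
      fun u _ => (bounds u).2.1, reps_L1.1, reps_L1.2, fun w hw => (values_L1 w hw).2.1⟩⟩

theorem ok_L4 : MonOK InL4 e4 t4 c6 ∧ MonOK InL4 e4' t4 c6' ∧ MonOK InL4 e4t t4 c61 :=
  ⟨⟨⟨ones.1.2.1, ones.2.2.2.1⟩, fun u hu v hv => ⟨(hom_L4 u hu v hv).1, (hom_L4 u hu v hv).2.1⟩,
      fun u _ => (bounds u).2.2.1, reps_even.1, reps_bij.1, fun w hw => (all_values w hw).1.1⟩,
    ⟨⟨ones.1.2.1, ones.2.2.2.2.1⟩,
      fun u hu v hv => ⟨(hom_L4 u hu v hv).1, (hom_L4 u hu v hv).2.2.1⟩,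
      fun u _ => (bounds u).2.2.2.1, reps_even.1, reps_bij.1, fun w hw => (all_values w hw).1.2.1⟩,
    ⟨⟨ones.1.2.1, ones.2.2.2.2.2.1⟩,
      fun u hu v hv => ⟨(hom_L4 u hu v hv).1, (hom_L4 u hu v hv).2.2.2⟩,
      fun u _ => (bounds u).2.2.2.2.1, reps_even.1, reps_bij.1,
      fun w hw => (values_L1 w hw).2.2.1⟩⟩

theorem ok_L2 : MonOK InL2 e2 t2 c12 :=
  ⟨⟨ones.1.2.2.1, ones.2.2.2.2.2.2.1⟩, hom_L2, fun u _ => (bounds u).2.2.2.2.2.1, reps_even.2.1,
    reps_bij.2.1, fun w hw => (all_values w hw).1.2.2.2⟩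

theorem ok_L3 : MonOK InL3 e3 t3 c8 :=
  ⟨⟨ones.1.2.2.2, ones.2.2.2.2.2.2.2⟩, hom_L3, fun u _ => (bounds u).2.2.2.2.2.2, reps_even.2.2,
    reps_bij.2.2, fun w hw => (all_values w hw).1.2.2.1⟩

/-- The embedding of `ℤ[√3]` into the complex numbers. -/
noncomputable def toC : ℤ√3 →+* ℂ :=
  Zsqrtd.lift ⟨((√3 : ℝ) : ℂ), by
    rw [← Complex.ofReal_mul, Real.mul_self_sqrt (by norm_num : (0 : ℝ) ≤ 3)]; norm_num⟩

theorem toC_apply (z : ℤ√3) : toC z = (z.re : ℂ) + (z.im : ℂ) * ((√3 : ℝ) : ℂ) := rfl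

/-- A primitive twelfth root of unity. -/
noncomputable def zeta : ℂ := (((√3 : ℝ) : ℂ) + Complex.I) / 2

theorem zeta_rel : zeta ^ 4 = zeta ^ 2 - 1 ∧ 2 * zeta - zeta ^ 3 = ((√3 : ℝ) : ℂ) := by
  have h : ((√3 : ℝ) : ℂ) ^ 2 = 3 := by
    rw [sq, ← Complex.ofReal_mul, Real.mul_self_sqrt (by norm_num : (0 : ℝ) ≤ 3)]; norm_num
  have hI := Complex.I_sq
  have h3 : zeta ^ 3 = Complex.I := by
    rw [zeta]
    linear_combination ((((√3 : ℝ) : ℂ) + 3 * Complex.I) / 8) * h +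
      ((3 * ((√3 : ℝ) : ℂ) + Complex.I) / 8) * hI
  have h2 : zeta ^ 2 = (1 + ((√3 : ℝ) : ℂ) * Complex.I) / 2 := by
    rw [zeta]; linear_combination (1 / 4 : ℂ) * h + (1 / 4 : ℂ) * hI
  refine ⟨?_, by rw [h3, zeta]; ring⟩
  rw [show zeta ^ 4 = zeta ^ 2 * zeta ^ 2 by ring, h2]
  linear_combination (Complex.I ^ 2 / 4) * h + (3 / 4 : ℂ) * hI

theorem zeta_twelve : zeta ^ 12 = 1 := by
  linear_combination (zeta ^ 8 + zeta ^ 6 - zeta ^ 2 - 1) * zeta_rel.1

/-- A coordinate vector as a number. -/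
noncomputable def vecC (v : ℤ × ℤ × ℤ × ℤ) : ℂ :=
  (v.1 : ℂ) + (v.2.1 : ℂ) * zeta + (v.2.2.1 : ℂ) * zeta ^ 2 + (v.2.2.2 : ℂ) * zeta ^ 3

theorem vecC_red {k : ℕ} (hk : k < 12) : vecC (red k) = zeta ^ k := by
  have h := zeta_rel.1
  interval_cases k <;> simp only [vecC, red, Int.cast_zero, Int.cast_one, Int.cast_neg]
  · ring
  · ring
  · ring
  · ring
  · linear_combination -h
  · linear_combination -zeta * h
  · linear_combination -(zeta ^ 2 + 1) * h
  · linear_combination -(zeta ^ 3 + zeta) * h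
  · linear_combination -(zeta ^ 4 + zeta ^ 2) * h
  · linear_combination -(zeta ^ 5 + zeta ^ 3) * h
  · linear_combination -(zeta ^ 6 + zeta ^ 4 - 1) * h
  · linear_combination -(zeta ^ 7 + zeta ^ 5 - zeta) * h

theorem vecC_add (u v : ℤ × ℤ × ℤ × ℤ) : vecC (u + v) = vecC u + vecC v := by
  simp only [vecC, Prod.fst_add, Prod.snd_add, Int.cast_add]; ring

theorem vecC_sum {ι : Type*} (s : Finset ι) (v : ι → ℤ × ℤ × ℤ × ℤ) :
    vecC (∑ i ∈ s, v i) = ∑ i ∈ s, vecC (v i) := by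
  classical
  induction s using Finset.induction_on with
  | empty => simp [vecC]
  | insert a s ha ih => rw [Finset.sum_insert ha, Finset.sum_insert ha, vecC_add, ih]

theorem vecC_ofZ3 (z : ℤ√3) : vecC (ofZ3 z) = toC z := by
  simp only [vecC, ofZ3, toC_apply, Int.cast_mul, Int.cast_ofNat, Int.cast_zero, Int.cast_neg]
  linear_combination (z.im : ℂ) * zeta_rel.2

theorem indFun_eq_sum_reps {G : Type*} [Group G] [Fintype G] (S : Subgroup G) {n : ℕ}
    (t : Fin n → G) (ht : ∀ x, ∃ j, (t j)⁻¹ * x ∈ S ∧ ∀ k, (t k)⁻¹ * x ∈ S → k = j)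
    (θ : S → ℂ) (hθ : IsClassFunction S θ) (g : G) :
    indFun S θ g = ∑ j, extendByZero S θ ((t j)⁻¹ * g * t j) := by
  classical
  have hinv : ∀ (y : G) (l : S), extendByZero S θ ((l : G)⁻¹ * y * l) = extendByZero S θ y := by
    intro y l
    by_cases hy : y ∈ S
    · have hy' : (l : G)⁻¹ * y * l ∈ S := S.mul_mem (S.mul_mem (S.inv_mem l.2) hy) l.2
      rw [Chars.extendByZero_of_mem _ hy, Chars.extendByZero_of_mem _ hy']
      exact Chars.isClassFunction_apply_eq hθ (isConj_iff.mpr ⟨l⁻¹, Subtype.ext (by simp [mul_assoc])⟩)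
    · have hy' : ¬ (l : G)⁻¹ * y * l ∈ S := fun h => hy (by
        have := S.mul_mem (S.mul_mem l.2 h) (S.inv_mem l.2)
        simpa [mul_assoc] using this)
      rw [Chars.extendByZero_of_not_mem _ hy, Chars.extendByZero_of_not_mem _ hy']
  choose j hj hju using ht
  let E : Fin n × S ≃ G :=
    { toFun := fun p => t p.1 * p.2
      invFun := fun x => (j x, ⟨(t (j x))⁻¹ * x, hj x⟩)
      left_inv := fun p => by
        have e : p.1 = j (t p.1 * p.2) := hju _ _ (by simp)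
        refine Prod.ext e.symm (Subtype.ext ?_)
        show (t (j (t p.1 * p.2)))⁻¹ * (t p.1 * p.2) = p.2
        rw [← e, inv_mul_cancel_left]
      right_inv := fun x => by simp }
  simp only [indFun]
  rw [← Fintype.sum_equiv E (fun p => extendByZero S θ ((t p.1)⁻¹ * g * t p.1))
    (fun x => extendByZero S θ (x⁻¹ * g * x)) (fun p => by
      show _ = extendByZero S θ ((t p.1 * p.2)⁻¹ * g * (t p.1 * p.2))
      rw [← hinv ((t p.1)⁻¹ * g * t p.1) p.2]; congr 1; group)]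
  rw [Fintype.sum_prod_type]
  simp only [Finset.sum_const, Finset.card_univ, nsmul_eq_mul, Fintype.card_eq_nat_card,
    ← Finset.mul_sum]
  exact inv_mul_cancel_left₀ (Nat.cast_ne_zero.mpr Nat.card_pos.ne') _

theorem vc_monomial {n : ℕ} {L : W → Prop} [DecidablePred L] {e : W → ℕ} {t : Fin n → W}
    {f : W → ℤ√3} (h : MonOK L e t f) :
    IsGeneralizedCharacter kSub (fun x : kSub => toC (f x)) := by
  classical
  obtain ⟨⟨h1, he1⟩, hmul, hlt, ht, hbij, hval⟩ := h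
  have hmem : ∀ x : kSub, L (x : W) → (x : W) ∈ kSet.filter L := fun x hx =>
    Finset.mem_filter.2 ⟨mem_kSub.1 x.2, hx⟩
  let M : Submonoid kSub :=
    { carrier := {x | L (x : W)}
      one_mem' := h1
      mul_mem' := fun {a b} ha hb => (hmul _ (hmem a ha) _ (hmem b hb)).1 }
  let S : Subgroup kSub :=
    { M with
      inv_mem' := fun {a} ha => by
        have e' : a⁻¹ = a ^ (orderOf a - 1) := by
          refine inv_eq_of_mul_eq_one_right ?_
          rw [← pow_succ', Nat.sub_add_cancel (orderOf_pos a), pow_orderOf_eq_one]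
        rw [e']
        exact M.pow_mem ha _ }
  haveI : Fintype kSub := Fintype.ofFinite _
  let lam : S →* ℂ :=
    { toFun := fun x => zeta ^ e ((x : kSub) : W)
      map_one' := by
        show zeta ^ e (((1 : S) : kSub) : W) = 1
        simp [he1]
      map_mul' := fun a b => by
        show zeta ^ e (((a : kSub) : W) * ((b : kSub) : W)) = _
        rw [(hmul _ (hmem _ a.2) _ (hmem _ b.2)).2, ← pow_add]
        exact (pow_eq_pow_mod _ zeta_twelve).symm }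
  have hchar := Chars.isCharacter_indFun (H := S) (Chars.isCharacter_hom lam.toHomUnits)
  have hθ := Chars.isClassFunction_of_isCharacter (Chars.isCharacter_hom lam.toHomUnits)
  let t' : Fin n → kSub := fun j => ⟨t j, (even_iff _).1 (ht j)⟩
  have key : (fun x : kSub => toC (f x)) = indFun S (fun y => ((lam.toHomUnits y : ℂˣ) : ℂ)) := by
    funext x
    rw [indFun_eq_sum_reps S t' (fun y => hbij y (mem_kSub.1 y.2)) _ hθ, ← vecC_ofZ3,
      ← hval x (mem_kSub.1 x.2), monVec, vecC_sum]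
    refine Finset.sum_congr rfl fun j _ => ?_
    have hm : (((t' j)⁻¹ * x * t' j : kSub) : W) = (t j)⁻¹ * (x : W) * t j := rfl
    split
    · next hj =>
      rw [Chars.extendByZero_of_mem _ (show (t' j)⁻¹ * x * t' j ∈ S from hj),
        vecC_red (hlt _ (by rw [← hm]; exact hmem _ hj))]
      rfl
    · next hj =>
      rw [Chars.extendByZero_of_not_mem _ (show ¬ (t' j)⁻¹ * x * t' j ∈ S from hj)]
      simp [vecC]
  rw [key]
  exact Chars.isGeneralizedCharacter_of_isCharacter hchar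

theorem vc_sign : IsGeneralizedCharacter kSub (fun x : kSub => toC ((sgn (x : W) : ℤ) : ℤ√3)) := by
  have h := Chars.isGeneralizedCharacter_of_isCharacter (Chars.isCharacter_hom
    (((Units.map (Int.castRingHom ℂ).toMonoidHom).comp Equiv.Perm.sign).comp
      (SemidirectProduct.rightHom.comp (decEquiv.toMonoidHom.comp kSub.subtype))))
  convert h using 1
  funext x
  simp [← sign_right, W.right, decEquiv, map_intCast]

theorem vc_one : IsGeneralizedCharacter kSub (fun _ : kSub => toC 1) := by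
  have h := Chars.isGeneralizedCharacter_of_isCharacter
    (Chars.isCharacter_hom (1 : kSub →* ℂˣ))
  simpa using h

theorem vc_c3' : IsGeneralizedCharacter kSub (fun x : kSub => toC (c3' x : ℤ√3)) := by
  have h := Chars.isGeneralizedCharacter_mul vc_sign (vc_monomial ok_L1.1)
  convert h using 1
  funext x
  simp [c3']

theorem vc_gA : IsGeneralizedCharacter kSub (fun x : kSub => toC (gA x)) := by
  have h := Chars.isGeneralizedCharacter_sub (Chars.isGeneralizedCharacter_add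
    (vc_monomial ok_L1.2) (vc_monomial ok_L1.1)) (vc_monomial ok_L4.2.2)
  convert h using 1
  funext x
  simp [(values_L1 x (mem_kSub.1 x.2)).2.2.2]

theorem vc_gA' : IsGeneralizedCharacter kSub (fun x : kSub => toC (gA' x)) := by
  have h := Chars.isGeneralizedCharacter_sub (Chars.isGeneralizedCharacter_add
    (Chars.isGeneralizedCharacter_add vc_one vc_c3') (vc_monomial ok_L3)) (vc_monomial ok_L2)
  convert h using 1
  funext x
  simp [(all_values x (mem_kSub.1 x.2)).2.1]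

theorem vc_gC : IsGeneralizedCharacter kSub (fun x : kSub => toC (gC x)) := by
  have h := Chars.isGeneralizedCharacter_sub (Chars.isGeneralizedCharacter_add vc_c3'
    (vc_monomial ok_L1.1)) (vc_monomial ok_L4.1)
  convert h using 1
  funext x
  simp [(all_values x (mem_kSub.1 x.2)).2.2.1]

theorem vc_gD : IsGeneralizedCharacter kSub (fun x : kSub => toC (gD x)) := by
  have h := Chars.isGeneralizedCharacter_sub (Chars.isGeneralizedCharacter_add
    (Chars.isGeneralizedCharacter_sub (vc_monomial ok_L1.2) vc_one) (vc_monomial ok_L4.1))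
    (vc_monomial ok_L3)
  convert h using 1
  funext x
  simp [(all_values x (mem_kSub.1 x.2)).2.2.2.1]

theorem vc_gP : IsGeneralizedCharacter kSub (fun x : kSub => toC (gP x)) := by
  have h := Chars.isGeneralizedCharacter_sub (vc_monomial ok_L4.1) (vc_monomial ok_L4.2.1)
  convert h using 1
  funext x
  simp [(all_values x (mem_kSub.1 x.2)).2.2.2.2]

end Cfsg.Agent.Lib.Higman4
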