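import Mathlib
import Cfsg.Agent.Lib.Higman3.Units

/-!
Integer vectors with the Gram matrix of the functions `C`, `D`, `A`, `A'`, `P`.
-/

set_option autoImplicit false

namespace Cfsg.Agent.Lib.Higman4

open Cfsg.Agent.Lib.Higman3 (idot idot_comm idot_eq injective_elim sum_sq_le eq_zero_of_sum_sq
  one_le_sq unit_of_sq)

variable {ι : Type*}

/-- A place with a sign. -/
abbrev Signed (ι : Type*) : Type _ := ι × ℤ

/-- The opposite sign. -/
def sneg (u : Signed ι) : Signed ι := (u.1, -u.2)

variable [Fintype ι]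

/-- A vector given by a value at `o` and three signed places. -/
def Rep3 (o : ι) (v : ι → ℤ) (c : ℤ) (u₁ u₂ u₃ : Signed ι) : Prop :=
  (u₁.2 * u₁.2 = 1 ∧ u₂.2 * u₂.2 = 1 ∧ u₃.2 * u₃.2 = 1) ∧
    ∀ w, idot v w = c * w o + (u₁.2 * w u₁.1 + u₂.2 * w u₂.1 + u₃.2 * w u₃.1)

/-- A vector given by two signed places. -/
def Rep2 (v : ι → ℤ) (u₁ u₂ : Signed ι) : Prop :=
  (u₁.2 * u₁.2 = 1 ∧ u₂.2 * u₂.2 = 1) ∧ ∀ w, idot v w = u₁.2 * w u₁.1 + u₂.2 * w u₂.1

/-- Three units away from `o`. -/
structure U3 (o : ι) (v : ι → ℤ) (p q r : ι) : Prop where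
  pq : p ≠ q
  pr : p ≠ r
  qr : q ≠ r
  po : p ≠ o
  qo : q ≠ o
  ro : r ≠ o
  p_sq : v p * v p = 1
  q_sq : v q * v q = 1
  r_sq : v r * v r = 1
  rep : ∀ w, idot v w = v o * w o + (v p * w p + v q * w q + v r * w r)

theorem U3.swap12 {o : ι} {v : ι → ℤ} {p q r : ι} (h : U3 o v p q r) : U3 o v q p r :=
  ⟨h.pq.symm, h.qr, h.pr, h.qo, h.po, h.ro, h.q_sq, h.p_sq, h.r_sq, fun w => by rw [h.rep]; ring⟩

theorem U3.swap23 {o : ι} {v : ι → ℤ} {p q r : ι} (h : U3 o v p q r) : U3 o v p r q :=
  ⟨h.pr, h.pq, h.qr.symm, h.po, h.ro, h.qo, h.p_sq, h.r_sq, h.q_sq, fun w => by rw [h.rep]; ring⟩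

theorem U3.eq_zero {o : ι} {v : ι → ℤ} {p q r x : ι} (h : U3 o v p q r) (h0 : x ≠ o) (h1 : x ≠ p)
    (h2 : x ≠ q) (h3 : x ≠ r) : v x = 0 := by
  classical
  have := h.rep (fun y => if y = x then 1 else 0)
  rw [idot, Finset.sum_eq_single x (fun y _ hy => by rw [if_neg hy, mul_zero]) (by simp),
    if_pos rfl, mul_one, if_neg h0.symm, if_neg h1.symm, if_neg h2.symm, if_neg h3.symm] at this
  simpa using this

theorem U3.cases {o : ι} {v : ι → ℤ} {p q r x : ι} (h : U3 o v p q r) (hx : x ≠ o) :
    v x = 0 ∨ x = p ∨ x = q ∨ x = r := by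
  by_cases h1 : x = p
  · exact Or.inr (Or.inl h1)
  by_cases h2 : x = q
  · exact Or.inr (Or.inr (Or.inl h2))
  by_cases h3 : x = r
  · exact Or.inr (Or.inr (Or.inr h3))
  exact Or.inl (h.eq_zero hx h1 h2 h3)

theorem U3.values {o : ι} {v : ι → ℤ} {p q r x : ι} (h : U3 o v p q r) (hx : x ≠ o) :
    v x = 0 ∨ v x = 1 ∨ v x = -1 := by
  rcases h.cases hx with e | e | e | e
  · exact Or.inl e
  all_goals subst e
  exacts [Or.inr (unit_of_sq h.p_sq), Or.inr (unit_of_sq h.q_sq), Or.inr (unit_of_sq h.r_sq)]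

theorem exists_next {κ : Type*} [Fintype κ] (f : κ → ι) (hf : Function.Injective f) {v : ι → ℤ}
    {k : ℤ} (hk : 1 ≤ k) (hk3 : k ≤ 3) (h : ∑ j, v (f j) * v (f j) + k = idot v v) :
    ∃ b, (∀ j, f j ≠ b) ∧ v b * v b = 1 := by
  obtain ⟨b, hb, hvb⟩ : ∃ b, (∀ j, f j ≠ b) ∧ v b ≠ 0 := by
    by_contra hc
    push Not at hc
    classical
    have h0 : idot v v = ∑ j, v (f j) * v (f j) := by
      trans ∑ x ∈ Finset.univ.map ⟨f, hf⟩, v x * v x
      swap
      · rw [Finset.sum_map]; rfl
      rw [idot]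
      refine (Finset.sum_subset (Finset.subset_univ _) fun x _ hx => ?_).symm
      rw [hc x fun j e => hx (by simp [← e]), zero_mul]
    omega
  have hle := sum_sq_le _ (injective_elim hf hb) v
  rw [Fintype.sum_option] at hle
  simp only [Option.elim_none, Option.elim_some] at hle
  refine ⟨b, hb, ?_⟩
  have h1 : v b ≤ 1 ∧ -1 ≤ v b := ⟨by nlinarith, by nlinarith⟩
  rcases (by omega : v b = 0 ∨ v b = 1 ∨ v b = -1) with e | e | e
  · exact absurd e hvb
  all_goals rw [e]; norm_num

theorem exists_U3 {o : ι} {v : ι → ℤ} (h : idot v v = v o * v o + 3) :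
    ∃ p q r, U3 o v p q r := by
  have hf0 : Function.Injective (fun _ : Unit => o) := fun _ _ _ => rfl
  obtain ⟨p, hp, hp1⟩ := exists_next _ hf0 (v := v) (k := 3) (by norm_num) le_rfl (by simp; omega)
  have hf1 := injective_elim hf0 hp
  obtain ⟨q, hq, hq1⟩ := exists_next _ hf1 (v := v) (k := 2) (by norm_num) (by norm_num)
    (by simp [Fintype.sum_option, hp1]; omega)
  have hf2 := injective_elim hf1 hq
  obtain ⟨r, hr, hr1⟩ := exists_next _ hf2 (v := v) (k := 1) le_rfl (by norm_num)
    (by simp [Fintype.sum_option, hp1, hq1]; omega)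
  refine ⟨p, q, r, hq none, hr (some none), hr none, (hp ()).symm, (hq (some ())).symm,
    (hr (some (some ()))).symm, hp1, hq1, hr1, fun w => ?_⟩
  rw [idot_eq _ (injective_elim hf2 hr) (v := v)
    (by simp [Fintype.sum_option, hp1, hq1, hr1]; omega) w]
  simp [Fintype.sum_option]
  ring

theorem exists_U2 {v : ι → ℤ} (h : idot v v = 2) :
    ∃ p q, p ≠ q ∧ v p * v p = 1 ∧ v q * v q = 1 ∧ ∀ w, idot v w = v p * w p + v q * w q := by
  have hf0 : Function.Injective (fun e : Empty => e.elim : Empty → ι) := fun e => e.elim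
  obtain ⟨p, hp, hp1⟩ := exists_next _ hf0 (v := v) (k := 2) (by norm_num) (by norm_num) (by simp [h])
  have hf1 := injective_elim hf0 hp
  obtain ⟨q, hq, hq1⟩ := exists_next _ hf1 (v := v) (k := 1) le_rfl (by norm_num)
    (by rw [Fintype.sum_option]; simp [hp1]; omega)
  refine ⟨p, q, hq none, hp1, hq1, fun w => ?_⟩
  rw [idot_eq _ (injective_elim hf1 hq) (v := v)
    (by rw [Fintype.sum_option, Fintype.sum_option]; simp [hp1, hq1]; omega) w]
  rw [Fintype.sum_option, Fintype.sum_option]
  simp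
  ring

/-- Two vectors with three units each and product one in absolute value share exactly one. -/
theorem U3.meet {o : ι} {v w deg : ι → ℤ} {p q r p' q' r' : ι} (hv : U3 o v p q r)
    (hw : U3 o w p' q' r') (hc : v o * w o = 0) (hdo : deg o = 1) (hd : ∀ x, deg x ≠ 0)
    (hvd : idot v deg = 0) (hwd : idot w deg = 0) (hvo : v o = 0 ∨ v o = 1)
    (hwo : w o = 0 ∨ w o = 1) {s : ℤ} (hs : s = 1 ∨ s = -1) (h : idot v w = s) :
    ∃ x y z, U3 o v x y z ∧ v x * w x = s ∧ w y = 0 ∧ w z = 0 := by
  rw [hv.rep, hc, zero_add] at h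
  have hp := hw.values hv.po
  have hq := hw.values hv.qo
  have hr := hw.values hv.ro
  by_cases p0 : w p = 0
  · by_cases q0 : w q = 0
    · refine ⟨r, p, q, hv.swap23.swap12, ?_, p0, q0⟩
      rw [p0, q0, mul_zero, mul_zero] at h; omega
    · by_cases r0 : w r = 0
      · refine ⟨q, p, r, hv.swap12, ?_, p0, r0⟩
        rw [p0, r0, mul_zero, mul_zero] at h; omega
      · exfalso
        rcases hq with e | e | e <;> rcases hr with e' | e' | e' <;>
          rcases unit_of_sq hv.q_sq with u | u <;> rcases unit_of_sq hv.r_sq with u' | u' <;>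
          simp [p0, e, e', u, u'] at h q0 r0 <;> omega
  · by_cases q0 : w q = 0
    · by_cases r0 : w r = 0
      · refine ⟨p, q, r, hv, ?_, q0, r0⟩
        rw [q0, r0, mul_zero, mul_zero] at h; omega
      · exfalso
        rcases hp with e | e | e <;> rcases hr with e' | e' | e' <;>
          rcases unit_of_sq hv.p_sq with u | u <;> rcases unit_of_sq hv.r_sq with u' | u' <;>
          simp [q0, e, e', u, u'] at h p0 r0 <;> omega
    · by_cases r0 : w r = 0
      · exfalso
        rcases hp with e | e | e <;> rcases hq with e' | e' | e' <;>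
          rcases unit_of_sq hv.p_sq with u | u <;> rcases unit_of_sq hv.q_sq with u' | u' <;>
          simp [r0, e, e', u, u'] at h p0 q0 <;> omega
      · exfalso
        have hinj : Function.Injective
            (fun k : Option (Option (Option Unit)) => k.elim p fun k => k.elim q fun k =>
              k.elim r fun _ => o) :=
          injective_elim (injective_elim (injective_elim (fun _ _ _ => rfl) fun _ => hv.ro.symm)
            (by rintro (_ | _); exacts [hv.qr.symm, hv.qo.symm]))
            (by rintro (_ | _ | _); exacts [hv.pq.symm, hv.pr.symm, hv.po.symm])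
        have sp : w p * w p = 1 := by
          rcases hp with e | e | e
          · exact absurd e p0
          all_goals rw [e]; norm_num
        have sq : w q * w q = 1 := by
          rcases hq with e | e | e
          · exact absurd e q0
          all_goals rw [e]; norm_num
        have sr : w r * w r = 1 := by
          rcases hr with e | e | e
          · exact absurd e r0
          all_goals rw [e]; norm_num
        rw [idot_eq _ hinj (v := w) (by
          simp [Fintype.sum_option, sp, sq, sr]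
          rw [hw.rep, hw.p_sq, hw.q_sq, hw.r_sq]; ring) deg] at hwd
        simp [Fintype.sum_option, hdo] at hwd
        rw [hv.rep, hdo] at hvd
        have := hd p
        have := hd q
        have := hd r
        rcases unit_of_sq hv.p_sq with u | u <;> rcases unit_of_sq hv.q_sq with u' | u' <;>
          rcases unit_of_sq hv.r_sq with u'' | u'' <;>
          rcases unit_of_sq sp with e | e <;> rcases unit_of_sq sq with e' | e' <;>
          rcases unit_of_sq sr with e'' | e'' <;>
          simp only [u, u', u'', e, e', e''] at h hvd hwd <;>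
          rcases hvo with o1 | o1 <;> rcases hwo with o2 | o2 <;>
          simp only [o1, o2] at hc hvd hwd <;> omega

/-- The hypotheses on the vectors. -/
structure Gram (deg : ι → ℤ) (o : ι) (A A' C D P : ι → ℤ) : Prop where
  deg_o : deg o = 1
  deg_ne : ∀ x, deg x ≠ 0
  A_o : A o = 1
  A'_o : A' o = 1
  C_o : C o = 0
  D_o : D o = 0
  P_o : P o = 0
  A_deg : idot A deg = 0
  A'_deg : idot A' deg = 0
  C_deg : idot C deg = 0
  D_deg : idot D deg = 0
  CC : idot C C = 3
  DD : idot D D = 3
  AA : idot A A = 4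
  A'A' : idot A' A' = 4
  PP : idot P P = 2
  CD : idot C D = -1
  CA : idot C A = 1
  CA' : idot C A' = 1
  CP : idot C P = -1
  DA : idot D A = 1
  DA' : idot D A' = -1
  DP : idot D P = 1
  AA' : idot A A' = 1
  AP : idot A P = 0
  A'P : idot A' P = 0

/-- The five possibilities for `A'`. -/
inductive Shape (o : ι) (A' P : ι → ℤ) (a b t ψ w r : Signed ι) : Prop where
  | generic (e : Signed ι) (h : Rep3 o A' 1 a w e)
  | four (h : Rep3 o A' 1 a (sneg ψ) r)
  | three (h : Rep3 o A' 1 b w (sneg r))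
  | two (e : Signed ι) (h : Rep3 o A' 1 b (sneg ψ) e)
  | pa (h : Rep2 P (sneg a) (sneg w))
  | pb (h : Rep2 P (sneg b) ψ)
  | one (e f : Signed ι) (h : Rep3 o A' 1 (sneg t) e f) (h' : Rep2 P t e)

theorem rep3_of_U3 {o : ι} {v : ι → ℤ} {p q r : ι} (h : U3 o v p q r) {c x y z : ℤ} (hc : v o = c)
    (hx : v p = x) (hy : v q = y) (hz : v r = z) : Rep3 o v c (p, x) (q, y) (r, z) := by
  subst hc hx hy hz
  exact ⟨⟨h.p_sq, h.q_sq, h.r_sq⟩, h.rep⟩

/-- The shared units. -/
theorem Gram.exists_shape {deg : ι → ℤ} {o : ι} {A A' C D P : ι → ℤ} (h : Gram deg o A A' C D P) :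
    ∃ a b t ψ w r : Signed ι, Rep3 o C 0 a b (sneg t) ∧ Rep3 o D 0 t ψ (sneg w) ∧
      Rep3 o A 1 b ψ r ∧ (C a.1 = a.2 ∧ D ψ.1 = ψ.2) ∧ Shape o A' P a b t ψ w r := by
  classical
  obtain ⟨C1, C2, C3, hC⟩ := exists_U3 (o := o) (v := C) (by rw [h.CC, h.C_o]; norm_num)
  obtain ⟨D1, D2, D3, hD⟩ := exists_U3 (o := o) (v := D) (by rw [h.DD, h.D_o]; norm_num)
  obtain ⟨A1, A2, A3, hA⟩ := exists_U3 (o := o) (v := A) (by rw [h.AA, h.A_o]; norm_num)
  obtain ⟨B1, B2, B3, hB⟩ := exists_U3 (o := o) (v := A') (by rw [h.A'A', h.A'_o]; norm_num)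
  obtain ⟨π₁, π₂, hπ, hπ1, hπ2, hP⟩ := exists_U2 h.PP
  -- `C` and `D`
  obtain ⟨t, a0, b0, hC, htD, ha0D, hb0D⟩ := hC.meet hD (by rw [h.C_o, zero_mul]) h.deg_o h.deg_ne
    h.C_deg h.D_deg (Or.inl h.C_o) (Or.inl h.D_o) (Or.inr rfl) h.CD
  -- `A` meets `C` away from `t`
  have hzero : ∀ x, x ≠ o → (C x ≠ 0 → D x ≠ 0 → x = t) := by
    intro x hx hcx hdx
    rcases hC.cases hx with e | e | e | e
    · exact absurd e hcx
    · exact e
    · exact absurd (e ▸ ha0D) hdx
    · exact absurd (e ▸ hb0D) hdx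
  obtain ⟨m, ψ', r', hA, hmC, hψC, hrC⟩ := hA.meet hC (by rw [h.C_o, mul_zero]) h.deg_o h.deg_ne
    h.A_deg h.C_deg (Or.inr h.A_o) (Or.inl h.C_o) (Or.inl rfl) (by rw [idot_comm, h.CA])
  have hAD : A m * D m + A ψ' * D ψ' + A r' * D r' = 1 := by
    have := h.DA
    rw [idot_comm, hA.rep, h.D_o, mul_zero, zero_add] at this
    exact this
  obtain ⟨x, y, z, hA2, hxD, hyD, hzD⟩ := hA.meet hD (by rw [h.D_o, mul_zero]) h.deg_o h.deg_ne
    h.A_deg h.D_deg (Or.inr h.A_o) (Or.inl h.D_o) (Or.inl rfl) (by rw [idot_comm, h.DA])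
  have hAx : ∀ k, k ≠ o → A k ≠ 0 → D k ≠ 0 → k = x := by
    intro k hk hak hdk
    rcases hA2.cases hk with e | e | e | e
    · exact absurd e hak
    · exact e
    · exact absurd (e ▸ hyD) hdk
    · exact absurd (e ▸ hzD) hdk
  have hAm0 : A m ≠ 0 := fun e => by simp [e] at hmC
  have hCm0 : C m ≠ 0 := fun e => by simp [e] at hmC
  have hmt : m ≠ t := by
    intro e
    have hDm : D m ≠ 0 := fun e' => by rw [← e] at htD; simp [e'] at htD
    have := hAx m hA.po hAm0 hDm
    rw [← this] at hxD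
    rw [← e] at htD
    rcases unit_of_sq hA.p_sq with u | u <;> rw [u] at hmC hxD <;> nlinarith
  have hDm : D m = 0 := by
    by_contra hne
    exact hmt (hzero m hA.po hCm0 hne)
  -- name the places
  obtain ⟨ψ, r, hA, hψ, hr0, hψC, hrC⟩ : ∃ ψ r, U3 o A m ψ r ∧ A ψ * D ψ = 1 ∧ D r = 0 ∧
      C ψ = 0 ∧ C r = 0 := by
    rw [hDm, mul_zero, zero_add] at hAD
    by_cases hr : D r' = 0
    · exact ⟨ψ', r', hA, by rw [hr, mul_zero] at hAD; omega, hr, hψC, hrC⟩
    · have hA0 : A r' ≠ 0 := fun e => by simpa [e] using hA.r_sq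
      have hψ0 : D ψ' = 0 := by
        by_contra hne
        exact hA.qr ((hAx _ hA.qo (fun e => by simpa [e] using hA.q_sq) hne).trans
          (hAx _ hA.ro hA0 hr).symm)
      exact ⟨r', ψ', hA.swap23, by rw [hψ0, mul_zero] at hAD; omega, hψ0, hrC, hψC⟩
  obtain ⟨a, hC⟩ : ∃ a, U3 o C t a m := by
    rcases hC.cases hA.po with e | e | e | e
    · exact absurd e hCm0
    · exact absurd e hmt
    · subst e; exact ⟨b0, hC.swap23⟩
    · subst e; exact ⟨a0, hC⟩
  have hDa : D a = 0 := by
    by_contra hne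
    exact hC.pq (hzero a hC.qo (fun e => by simpa [e] using hC.q_sq) hne).symm
  obtain ⟨w, hD⟩ : ∃ w, U3 o D t ψ w := by
    have hDt : D t ≠ 0 := fun e => by simp [e] at htD
    have hDψ : D ψ ≠ 0 := fun e => by simp [e] at hψ
    have hψt : ψ ≠ t := fun e => by rw [e] at hψC; simp [hψC] at htD
    rcases hD.cases hC.po with e | e | e | e
    · exact absurd e hDt
    all_goals subst e
    all_goals rcases hD.cases hA.qo with f | f | f | f
    all_goals first
      | exact absurd f hDψ
      | exact absurd f hψt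
      | (subst f
         first
           | exact ⟨_, hD⟩
           | exact ⟨_, hD.swap23⟩
           | exact ⟨_, hD.swap12⟩
           | exact ⟨_, hD.swap12.swap23⟩
           | exact ⟨_, hD.swap23.swap12⟩
           | exact ⟨_, hD.swap23.swap12.swap23⟩)
  have hwC : C w = 0 := by
    by_contra hne
    exact hD.pr (hzero w hD.ro hne (fun e => by simpa [e] using hD.r_sq)).symm
  have hAa : A a = 0 := by
    refine hA.eq_zero hC.qo (fun e => hC.qr e) (fun e => ?_) fun e => ?_
    · rw [← e] at hψC; simpa [hψC] using hC.q_sq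
    · rw [← e] at hrC; simpa [hrC] using hC.q_sq
  have hAw : A w = 0 := by
    refine hA.eq_zero hD.ro (fun e => ?_) (fun e => hD.qr e.symm) fun e => ?_
    · rw [← e] at hDm; simpa [hDm] using hD.r_sq
    · rw [← e] at hr0; simpa [hr0] using hD.r_sq
  have hAt : A t = 0 := by
    refine hA.eq_zero hC.po hmt.symm hD.pq fun e => ?_
    rw [← e] at hrC; simpa [hrC] using hC.p_sq
  have hCt := unit_of_sq hC.p_sq
  have hAψ : A ψ = D ψ := by
    rcases unit_of_sq hA.q_sq with u | u <;> rw [u] at hψ ⊢ <;> omega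
  have hAm : A m = C m := by
    rcases unit_of_sq hA.p_sq with u | u <;> rw [u] at hmC ⊢ <;> omega
  have hDt : D t = -C t := by
    rcases hCt with u | u <;> rw [u] at htD ⊢ <;> omega
  refine ⟨(a, C a), (m, C m), (t, D t), (ψ, D ψ), (w, -D w), (r, A r), ?_, ?_, ?_, ⟨rfl, rfl⟩, ?_⟩
  · exact rep3_of_U3 hC.swap12.swap23 h.C_o rfl rfl (by show C t = -D t; omega)
  · exact rep3_of_U3 hD h.D_o rfl rfl (by show D w = - -D w; omega)
  · exact rep3_of_U3 hA h.A_o hAm hAψ rfl
  -- the vector `P`
  have hPv : ∀ f : ι → ℤ, f π₁ * P π₁ + f π₂ * P π₂ = idot P f := fun f => by rw [hP]; ring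
  have hPC : P t * C t + P a * C a + P m * C m = -1 := by
    have := h.CP
    rw [hC.rep, h.P_o, mul_zero, zero_add] at this
    rw [← this]; ring
  have hPD : P t * D t + P ψ * D ψ + P w * D w = 1 := by
    have := h.DP
    rw [hD.rep, h.P_o, mul_zero, zero_add] at this
    rw [← this]; ring
  have hPA : P m * A m + P ψ * A ψ + P r * A r = 0 := by
    have := h.AP
    rw [hA.rep, h.P_o, mul_zero, zero_add] at this
    rw [← this]; ring
  have hP0 : ∀ x, x ≠ π₁ → x ≠ π₂ → P x = 0 := by
    intro x h1 h2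
    have := hP (fun y => if y = x then 1 else 0)
    rw [idot, Finset.sum_eq_single x (fun y _ hy => by rw [if_neg hy, mul_zero]) (by simp),
      if_pos rfl, mul_one, if_neg h1.symm, if_neg h2.symm] at this
    simpa using this
  have hPsupp : ∀ x y z, x ≠ y → x ≠ z → y ≠ z → P x ≠ 0 → P y ≠ 0 → P z = 0 := by
    intro x y z hxy hxz hyz hx hy
    by_contra hz
    have key : ∀ k, P k ≠ 0 → k = π₁ ∨ k = π₂ := fun k hk => by
      by_contra hc
      push Not at hc
      exact hk (hP0 k hc.1 hc.2)
    rcases key x hx with e | e <;> rcases key y hy with e' | e' <;> rcases key z hz with e'' | e'' <;>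
      first
        | exact hxy (e.trans e'.symm)
        | exact hxz (e.trans e''.symm)
        | exact hyz (e'.trans e''.symm)
  have hrep2 : ∀ x y, x ≠ y → P x ≠ 0 → P y ≠ 0 →
      Rep2 P (x, P x) (y, P y) := by
    intro x y hxy hx hy
    have key : ∀ k, P k ≠ 0 → k = π₁ ∨ k = π₂ := fun k hk => by
      by_contra hc
      push Not at hc
      exact hk (hP0 k hc.1 hc.2)
    rcases key x hx with e | e <;> rcases key y hy with e' | e' <;> subst e e'
    · exact absurd rfl hxy
    · exact ⟨⟨hπ1, hπ2⟩, hP⟩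
    · exact ⟨⟨hπ2, hπ1⟩, fun f => by rw [hP]; ring⟩
    · exact absurd rfl hxy
  by_cases hPa : P a ≠ 0
  · -- `P` contains `a`
    have hPt : P t = 0 := by
      by_contra hne
      rw [hPsupp t a m hC.pq hC.pr hC.qr hne hPa, zero_mul, add_zero] at hPC
      have g1 : P t = 1 ∨ P t = -1 := by
        rcases (by
          by_contra hc
          push Not at hc
          exact hne (hP0 t hc.1 hc.2) : t = π₁ ∨ t = π₂) with e | e <;> rw [e]
        exacts [unit_of_sq hπ1, unit_of_sq hπ2]
      have g2 : P a = 1 ∨ P a = -1 := by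
        rcases (by
          by_contra hc
          push Not at hc
          exact hPa (hP0 a hc.1 hc.2) : a = π₁ ∨ a = π₂) with e | e <;> rw [e]
        exacts [unit_of_sq hπ1, unit_of_sq hπ2]
      rcases g1 with u | u <;> rcases g2 with u' | u' <;> rcases hCt with u'' | u'' <;>
        rcases unit_of_sq hC.q_sq with u₃ | u₃ <;> simp only [u, u', u'', u₃] at hPC <;> omega
    have haψ : a ≠ ψ := fun e => by rw [← e] at hψC; simpa [hψC] using hC.q_sq
    have haw : a ≠ w := fun e => by rw [← e] at hwC; simpa [hwC] using hC.q_sq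
    have hPψ : P ψ = 0 := by
      by_contra hne
      have hmψ : m ≠ ψ := hA.pq
      have hrψ : r ≠ ψ := hA.qr.symm
      have har : a ≠ r := fun e => by rw [← e] at hrC; simpa [hrC] using hC.q_sq
      rw [hPsupp a ψ m haψ hC.qr hmψ.symm hPa hne, hPsupp a ψ r haψ har hrψ.symm hPa hne] at hPA
      simp at hPA
      rcases hPA with e | e
      · exact hne e
      · simpa [e] using hA.q_sq
    rw [hPt, hPψ, zero_mul, zero_mul, zero_add, zero_add] at hPD
    have hPw : P w ≠ 0 := fun e => by simp [e] at hPD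
    have hPm : P m = 0 := hPsupp a w m haw hC.qr (fun e => by rw [e] at hwC; exact hCm0 hwC) hPa hPw
    rw [hPt, hPm, zero_mul, zero_mul, zero_add, add_zero] at hPC
    refine Shape.pa ?_
    have e1 : P a = -C a := by
      rcases unit_of_sq hC.q_sq with u | u <;> rw [u] at hPC ⊢ <;> omega
    have e2 : P w = D w := by
      rcases unit_of_sq hD.r_sq with u | u <;> rw [u] at hPD ⊢ <;> omega
    have := hrep2 a w haw hPa hPw
    rw [e1, e2] at this
    simpa [sneg] using this
  push Not at hPa
  by_cases hPm : P m ≠ 0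
  · -- `P` contains the common unit of `A` and `C`
    have hPt : P t = 0 := by
      by_contra hne
      rw [hPa, zero_mul, add_zero] at hPC
      have g : ∀ x, P x ≠ 0 → P x = 1 ∨ P x = -1 := fun x hx => by
        rcases (by
          by_contra hc
          push Not at hc
          exact hx (hP0 x hc.1 hc.2) : x = π₁ ∨ x = π₂) with e | e <;> rw [e]
        exacts [unit_of_sq hπ1, unit_of_sq hπ2]
      rcases g t hne with u | u <;> rcases g m hPm with u' | u' <;> rcases hCt with u'' | u'' <;>
        rcases unit_of_sq hC.r_sq with u₃ | u₃ <;> simp only [u, u', u'', u₃] at hPC <;> omega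
    rw [hPt, hPa, zero_mul, zero_mul, zero_add, zero_add] at hPC
    rw [hPt, zero_mul, zero_add] at hPD
    have e1 : P m = -C m := by
      rcases unit_of_sq hC.r_sq with u | u <;> rw [u] at hPC ⊢ <;> omega
    have hPψ : P ψ ≠ 0 := by
      intro e
      rw [e, zero_mul, zero_add] at hPD
      have hPw : P w ≠ 0 := fun e' => by simp [e'] at hPD
      have hmw : m ≠ w := fun e' => by rw [e'] at hCm0; exact hCm0 hwC
      have hwr : w ≠ r := fun e' => by rw [← e'] at hr0; simpa [hr0] using hD.r_sq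
      rw [hPsupp m w r hmw hA.pr hwr hPm hPw, e] at hPA
      simp at hPA
      rcases hPA with e' | e'
      · exact hPm e'
      · exact hAm0 e'
    have hPw : P w = 0 :=
      hPsupp m ψ w hA.pq (fun e' => by rw [e'] at hCm0; exact hCm0 hwC) hD.qr hPm hPψ
    rw [hPw, zero_mul, add_zero] at hPD
    have e2 : P ψ = D ψ := by
      rcases unit_of_sq hD.q_sq with u | u <;> rw [u] at hPD ⊢ <;> omega
    refine Shape.pb ?_
    have := hrep2 m ψ hA.pq hPm hPψ
    rw [e1, e2] at this
    simpa [sneg] using this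
  push Not at hPm
  rw [hPa, hPm, zero_mul, zero_mul, add_zero, add_zero] at hPC
  have hPt : P t = -C t := by
    rcases hCt with u | u <;> rw [u] at hPC ⊢ <;> omega
  have hPt0 : P t ≠ 0 := fun e => by simp [e] at hPC
  -- `A'` meets `C` and `D` once each
  obtain ⟨cx, cy, cz, hB, hcx, hcy, hcz⟩ := hB.meet hC (by rw [h.C_o, mul_zero]) h.deg_o h.deg_ne
    h.A'_deg h.C_deg (Or.inr h.A'_o) (Or.inl h.C_o) (Or.inl rfl) (by rw [idot_comm, h.CA'])
  obtain ⟨dx, dy, dz, hB', hdx, hdy, hdz⟩ := hB.meet hD (by rw [h.D_o, mul_zero]) h.deg_o h.deg_ne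
    h.A'_deg h.D_deg (Or.inr h.A'_o) (Or.inl h.D_o) (Or.inr rfl) (by rw [idot_comm, h.DA'])
  have hBA : A' m * A m + A' ψ * A ψ + A' r * A r = 0 := by
    have := h.AA'
    rw [hA.rep, h.A'_o, h.A_o] at this
    linarith
  have hBP := h.A'P
  rw [hB.rep, h.P_o, mul_zero, zero_add] at hBP
  have hcx0 : C cx ≠ 0 := fun e => by simp [e] at hcx
  have hBC : ∀ k, k ≠ o → C k ≠ 0 → k ≠ cx → A' k = 0 := by
    intro k hk hck hkx
    rcases hB.cases hk with e | e | e | e
    · exact e
    · exact absurd e hkx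
    · exact absurd (e ▸ hcy) hck
    · exact absurd (e ▸ hcz) hck
  have hBD : ∀ k, k ≠ o → D k ≠ 0 → k ≠ dx → A' k = 0 := by
    intro k hk hdk hkx
    rcases hB'.cases hk with e | e | e | e
    · exact e
    · exact absurd e hkx
    · exact absurd (e ▸ hdy) hdk
    · exact absurd (e ▸ hdz) hdk
  have hDψ0 : D ψ ≠ 0 := fun e => by simpa [e] using hD.q_sq
  have hDw0 : D w ≠ 0 := fun e => by simpa [e] using hD.r_sq
  have hDt0 : D t ≠ 0 := fun e => by simpa [e] using hD.p_sq
  have hCa0 : C a ≠ 0 := fun e => by simpa [e] using hC.q_sq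
  rcases hC.cases hB.po with e | e | e | e
  · exact absurd e hcx0
  · -- the shared unit of `C` and `D`
    subst e
    have hA'm : A' m = 0 := hBC m hA.po hCm0 hmt
    have hA'ψ : A' ψ = 0 := by
      refine hBD ψ hA.qo hDψ0 ?_
      rcases hB'.cases hC.po with e | e | e | e
      · simp [e] at hcx
      · rw [← e]; exact hD.pq.symm
      · exact absurd (e ▸ hdy) hDt0
      · exact absurd (e ▸ hdz) hDt0
    rw [hA'm, hA'ψ, zero_mul, zero_mul, zero_add, zero_add] at hBA
    have hcx' : A' cx = C cx := by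
      rcases unit_of_sq hC.p_sq with u | u <;> rw [u] at hcx ⊢ <;> omega
    have g : ∀ x, P x = 0 ∨ P x = 1 ∨ P x = -1 := fun x => by
      by_cases e1 : x = π₁
      · exact Or.inr (e1 ▸ unit_of_sq hπ1)
      by_cases e2 : x = π₂
      · exact Or.inr (e2 ▸ unit_of_sq hπ2)
      exact Or.inl (hP0 x e1 e2)
    rw [hcx', hPt] at hBP
    by_cases hy : P cy = 0
    · rw [hy, mul_zero, add_zero] at hBP
      have e2 : P cz = A' cz := by
        rcases unit_of_sq hB.r_sq with u | u <;> rcases hCt with u' | u' <;> rw [u] at hBP ⊢ <;>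
          rw [u'] at hBP <;> omega
      refine Shape.one (cz, A' cz) (cy, A' cy) ?_ ?_
      · exact rep3_of_U3 hB.swap23 h.A'_o (by show A' cx = - D cx; rw [hcx']; omega) rfl rfl
      · have := hrep2 cx cz hB.pr hPt0 (fun e => by rw [e] at e2; simpa [← e2] using hB.r_sq)
        rw [hPt, e2] at this
        simpa [sneg, hDt] using this
    · have hz : P cz = 0 := hPsupp cx cy cz hB.pq hB.pr hB.qr hPt0 hy
      rw [hz, mul_zero, add_zero] at hBP
      have e2 : P cy = A' cy := by
        rcases unit_of_sq hB.q_sq with u | u <;> rcases hCt with u' | u' <;> rw [u] at hBP ⊢ <;>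
          rw [u'] at hBP <;> omega
      refine Shape.one (cy, A' cy) (cz, A' cz) ?_ ?_
      · exact rep3_of_U3 hB h.A'_o (by show A' cx = - D cx; rw [hcx']; omega) rfl rfl
      · have := hrep2 cx cy hB.pq hPt0 hy
        rw [hPt, e2] at this
        simpa [sneg, hDt] using this
  all_goals
    subst e
    have hA't : A' t = 0 := hBC t hC.po (fun e => by simpa [e] using hC.p_sq) (by
      first | exact hC.pq | exact hC.pr)
    have hdx0 : D dx ≠ 0 := fun e => by simp [e] at hdx
    have hA'cx : A' cx = C cx := by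
      rcases unit_of_sq hB.p_sq with u | u <;> rw [u] at hcx ⊢ <;> omega
    rcases hD.cases hB'.po with e | e | e | e
    · exact absurd e hdx0
    · subst e; simp [hA't] at hdx
    all_goals
      subst e
      have hA'dx : A' dx = -D dx := by
        rcases unit_of_sq hB'.p_sq with u | u <;> rw [u] at hdx ⊢ <;> omega
      have hne : cx ≠ dx := fun e => by
        first
          | exact hcx0 (e ▸ hψC)
          | exact hcx0 (e ▸ hwC)
      obtain ⟨e', hB₂⟩ : ∃ e', U3 o A' cx dx e' := by
        rcases hB.cases hB'.po with f | f | f | f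
        · simp [f] at hdx
        · exact absurd f.symm hne
        · subst f; exact ⟨_, hB⟩
        · subst f; exact ⟨_, hB.swap23⟩
      have hA'r : r ≠ e' → A' r = 0 := fun hre => by
        refine hB₂.eq_zero hA.ro ?_ ?_ hre
        · intro e''; subst e''; exact hcx0 hrC
        · intro e''; subst e''; exact hdx0 hr0
      first
        | -- `(a, w)`
          (have g1 : A' m = 0 := hBC m hA.po hCm0 hC.qr.symm
           have g2 : A' ψ = 0 := hBD ψ hA.qo hDψ0 hD.qr
           exact Shape.generic (e', A' e') (rep3_of_U3 hB₂ h.A'_o hA'cx hA'dx rfl))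
        | -- `(a, ψ)`
          (have g1 : A' m = 0 := hBC m hA.po hCm0 hC.qr.symm
           rw [g1, zero_mul, zero_add, hA'dx, hAψ] at hBA
           have hre : r = e' := by
             by_contra hre
             rw [hA'r hre, zero_mul, add_zero] at hBA
             rcases unit_of_sq hD.q_sq with u | u <;> rw [u] at hBA <;> omega
           have e4 : A' r = A r := by
             rcases unit_of_sq hD.q_sq with u | u <;> rcases unit_of_sq hA.r_sq with u' | u' <;>
               rw [u, u'] at hBA <;> rw [u'] <;> omega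
           exact Shape.four (rep3_of_U3 hB₂ h.A'_o hA'cx hA'dx (hre ▸ e4 : A' e' = A r) |>
             fun H => by simpa [sneg, hre] using H))
        | -- `(b, w)`
          (have g2 : A' ψ = 0 := hBD ψ hA.qo hDψ0 hD.qr
           rw [g2, zero_mul, add_zero, hA'cx, hAm] at hBA
           have hre : r = e' := by
             by_contra hre
             rw [hA'r hre, zero_mul, add_zero] at hBA
             rcases unit_of_sq hC.r_sq with u | u <;> rw [u] at hBA <;> omega
           have e4 : A' r = -A r := by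
             rcases unit_of_sq hC.r_sq with u | u <;> rcases unit_of_sq hA.r_sq with u' | u' <;>
               rw [u, u'] at hBA <;> rw [u'] <;> omega
           exact Shape.three (rep3_of_U3 hB₂ h.A'_o hA'cx hA'dx (hre ▸ e4 : A' e' = -A r) |>
             fun H => by simpa [sneg, hre] using H))
        | -- `(b, ψ)`
          exact Shape.two (e', A' e') (rep3_of_U3 hB₂ h.A'_o hA'cx hA'dx rfl)

end Cfsg.Agent.Lib.Higman4
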