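import Mathlib
import Cfsg.Agent.Lib.Higman4.Monomial
import Cfsg.Agent.Lib.Higman4.Control
import Cfsg.Agent.Lib.Higman4.Units
import Cfsg.Agent.Lib.Higman4.Algebra
import Cfsg.Agent.Lib.Higman3.TwoClasses
import Cfsg.Agent.Lib.Higman3.Main

/-!
The five generalized characters on a subgroup isomorphic to the even monomial triples: Gram matrix
after induction, and the functionals attached to the two classes of involutions.
-/

set_option autoImplicit false

namespace Cfsg.Agent.Lib.Higman4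

open Cfsg Cfsg.Agent.Lib
open scoped ComplexConjugate
open Cfsg.Agent.Lib.Higman3 (idot coeff irrDeg irrDeg_spec irrDeg_ne_zero intVal intVal_spec)

theorem conj_toC (z : ℤ√3) : conj (toC z) = toC z := by
  simp [toC_apply, Complex.conj_ofReal]

theorem pairVal {S : ℤ√3} {q : ℚ} {m n : ℤ} (hm : m ≠ 0) (h : (m : ℤ√3) * S = n)
    (hq : (m : ℚ) * q = n) : toC S = (q : ℂ) := by
  have h' := congrArg toC h
  rw [map_mul, map_intCast, map_intCast] at h'
  have hq' : (m : ℂ) * (q : ℂ) = n := by exact_mod_cast congrArg (Rat.cast : ℚ → ℂ) hq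
  exact mul_left_cancel₀ (Int.cast_ne_zero.2 hm) (h'.trans hq'.symm)

variable {G : Type*} [Group G] [Fintype G] {H J : Subgroup G} [Fintype H]

/-- The conjugates of `s`. -/
noncomputable def conjClass (s : G) : Finset G := by
  classical exact Finset.univ.filter fun u => IsConj s u

theorem mem_conjClass {s u : G} : u ∈ conjClass s ↔ IsConj s u := by
  classical simp [conjClass]

theorem irrDeg_trivial : irrDeg (Chars.trivialIrr G) = 1 := by
  have := irrDeg_spec (Chars.trivialIrr G)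
  rw [Chars.trivialIrr_apply] at this
  exact_mod_cast this.symm

theorem intVal_trivial {s : G} (hs : s * s = 1) : intVal (Chars.trivialIrr G) s = 1 := by
  have := intVal_spec (Chars.trivialIrr G) hs
  rw [Chars.trivialIrr_apply] at this
  exact_mod_cast this.symm

theorem coeff_eq_classInner {φ : H → ℂ} (hφ : IsGeneralizedCharacter H φ) (χ : IrrCharacter G) :
    (coeff hφ χ : ℂ) = classInner φ (fun h : H => (χ : G → ℂ) h) := by
  rw [← Higman3.coeff_spec hφ χ]
  exact Chars.classInner_indFun_left _ _ _ (Chars.irr_isClassFunction χ)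

theorem one_not_mem_powSet : (1 : G) ∉ powSet H J := by
  rintro ⟨-, h | h⟩ <;> exact h.2 (one_pow _)

namespace Model

variable (M : Model H)

/-- A function of triples read on `H`. -/
noncomputable def lift (f : W → ℤ√3) : H → ℂ := fun h => toC (f (M.psi h))

omit [Fintype G] [Fintype H] in
theorem vc_pull {f : W → ℤ√3} (hf : IsGeneralizedCharacter kSub (fun x : kSub => toC (f x))) :
    IsGeneralizedCharacter H (M.lift f) := by
  obtain ⟨χ, η, hχ, hη, e⟩ := hf
  let π : H →* kSub := M.psi.codRestrict kSub fun h => mem_kSub.2 (M.mem h)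
  exact ⟨_, _, Chars.isCharacter_comp π hχ, Chars.isCharacter_comp π hη,
    funext fun h => congrFun e (π h)⟩

variable {M}

omit [Fintype G] [Fintype H] in
theorem supported (D : JData M J) {f : W → ℤ√3} (hf : ∀ w ∈ kSet, ¬InX w → f w = 0) :
    Higman3.Supported (powSet H J) (M.lift f) := by
  intro h hh
  show toC (f (M.psi h)) = 0
  rw [hf _ (M.mem h) fun hX => hh ?_, map_zero]
  refine ⟨h.2, ?_⟩
  have key : ∀ n : ℕ, InJ (M.psi h ^ n) → M.psi h ^ n ≠ 1 → (h : G) ^ n ∈ J ∧ (h : G) ^ n ≠ 1 := by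
    intro n h1 h2
    rw [← map_pow] at h1 h2
    exact ⟨by simpa using (D.mem_iff (h ^ n)).2 h1,
      fun e => h2 ((M.psi_eq_one_iff _).2 (by simpa using e))⟩
  rcases hX with h1 | h1
  exacts [Or.inl (key 4 h1.1 h1.2), Or.inr (key 3 h1.1 h1.2)]

theorem classInner_lift (f g : W → ℤ√3) :
    classInner (M.lift f) (M.lift g) = (648 : ℂ)⁻¹ * toC (∑ w ∈ kSet, f w * g w) := by
  simp only [classInner, lift, conj_toC, ← map_mul, ← map_sum]
  rw [M.card_eq, M.sum_eq (fun w => f w * g w)]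
  norm_num

theorem idot_lift (D : JData M J) {f g : W → ℤ√3} (hf : IsGeneralizedCharacter H (M.lift f))
    (hg : IsGeneralizedCharacter H (M.lift g)) (hfs : ∀ w ∈ kSet, ¬InX w → f w = 0)
    (hgs : ∀ w ∈ kSet, ¬InX w → g w = 0) {n : ℤ}
    (h : ∑ w ∈ kSet, f w * g w = ((648 * n : ℤ) : ℤ√3)) :
    idot (coeff (G := G) hf) (coeff hg) = n := by
  have := Higman3.idot_coeff (controlled D) hf hg (supported D hfs) (supported D hgs)
  rw [classInner_lift, h, map_intCast] at this
  push_cast at this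
  rw [← mul_assoc, inv_mul_cancel₀ (by norm_num), one_mul] at this
  exact_mod_cast this

theorem coeff_lift_trivial {f : W → ℤ√3} (hf : IsGeneralizedCharacter H (M.lift f)) {n : ℤ}
    (h : ∑ w ∈ kSet, f w = ((648 * n : ℤ) : ℤ√3)) : coeff hf (Chars.trivialIrr G) = n := by
  have := Higman3.coeff_trivial (G := G) hf
  rw [show (fun _ : H => (1 : ℂ)) = M.lift (fun _ => 1) from funext fun _ => (map_one toC).symm,
    classInner_lift] at this
  simp only [mul_one, h, map_intCast] at this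
  push_cast at this
  rw [← mul_assoc, inv_mul_cancel₀ (by norm_num), one_mul] at this
  exact_mod_cast this

variable (M)

/-- The coefficients of the induced functions. -/
noncomputable def cA : IrrCharacter G → ℤ := coeff (M.vc_pull vc_gA)
/-- The coefficients for `A'`. -/
noncomputable def cA' : IrrCharacter G → ℤ := coeff (M.vc_pull vc_gA')
/-- The coefficients for `C`. -/
noncomputable def cC : IrrCharacter G → ℤ := coeff (M.vc_pull vc_gC)
/-- The coefficients for `D`. -/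
noncomputable def cD : IrrCharacter G → ℤ := coeff (M.vc_pull vc_gD)
/-- The coefficients for `P`. -/
noncomputable def cP : IrrCharacter G → ℤ := coeff (M.vc_pull vc_gP)

variable {M}

theorem gram (D : JData M J) :
    Gram (irrDeg (G := G)) (Chars.trivialIrr G) (M.cA) (M.cA') (M.cC) (M.cD) (M.cP) := by
  obtain ⟨g1, g2, g3, g4, g5, g6, g7, g8, g9, g10, g11, g12, g13, g14, g15⟩ := grams
  obtain ⟨s1, s2, s3, s4, s5⟩ := sums
  have vA := fun w hw hx => (vanish w hw hx).1
  have vA' := fun w hw hx => (vanish w hw hx).2.1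
  have vC := fun w hw hx => (vanish w hw hx).2.2.1
  have vD := fun w hw hx => (vanish w hw hx).2.2.2.1
  have vP := fun w hw hx => (vanish w hw hx).2.2.2.2
  have hdeg := fun {f : W → ℤ√3} (hf : IsGeneralizedCharacter H (M.lift f))
    (hs : ∀ w ∈ kSet, ¬InX w → f w = 0) =>
      Higman3.idot_coeff_deg (G := G) one_not_mem_powSet hf (supported D hs)
  exact {
    deg_o := irrDeg_trivial
    deg_ne := irrDeg_ne_zero
    A_o := coeff_lift_trivial _ (by rw [s1]; norm_num)
    A'_o := coeff_lift_trivial _ (by rw [s2]; norm_num)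
    C_o := coeff_lift_trivial _ (by rw [s3]; norm_num)
    D_o := coeff_lift_trivial _ (by rw [s4]; norm_num)
    P_o := coeff_lift_trivial _ (by rw [s5]; norm_num)
    A_deg := hdeg _ vA
    A'_deg := hdeg _ vA'
    C_deg := hdeg _ vC
    D_deg := hdeg _ vD
    CC := idot_lift D _ _ vC vC (by rw [g1]; norm_num)
    DD := idot_lift D _ _ vD vD (by rw [g2]; norm_num)
    AA := idot_lift D _ _ vA vA (by rw [g3]; norm_num)
    A'A' := idot_lift D _ _ vA' vA' (by rw [g4]; norm_num)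
    PP := idot_lift D _ _ vP vP (by rw [g5]; norm_num)
    CD := idot_lift D _ _ vC vD (by rw [g6]; norm_num)
    CA := idot_lift D _ _ vC vA (by rw [g7]; norm_num)
    CA' := idot_lift D _ _ vC vA' (by rw [g8]; norm_num)
    CP := idot_lift D _ _ vC vP (by rw [g9]; norm_num)
    DA := idot_lift D _ _ vD vA (by rw [g10]; norm_num)
    DA' := idot_lift D _ _ vD vA' (by rw [g11]; norm_num)
    DP := idot_lift D _ _ vD vP (by rw [g12]; norm_num)
    AA' := idot_lift D _ _ vA vA' (by rw [g13]; norm_num)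
    AP := idot_lift D _ _ vA vP (by rw [g14]; norm_num)
    A'P := idot_lift D _ _ vA' vP (by rw [g15]; norm_num) }

end Model

/-- Two involutions of `H`, one of each kind, and what is known about `J`. -/
structure Setting (M : Model H) (J : Subgroup G) (a b : H) : Prop where
  data : JData M J
  ha : M.psi a = flip01
  hb : M.psi b = swapFlip

namespace Setting

variable {M : Model H} {a b : H} (S : Setting M J a b)

include S

omit [Fintype G] [Fintype H] in
theorem sq_a : (a : G) * a = 1 :=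
  congrArg Subtype.val (M.inj (by rw [map_mul, map_one, S.ha]; exact invol_basic.1.2.2.1) : a * a = 1)

omit [Fintype G] [Fintype H] in
theorem sq_b : (b : G) * b = 1 :=
  congrArg Subtype.val (M.inj (by rw [map_mul, map_one, S.hb]; exact invol_basic.2.2.2.1) : b * b = 1)

omit [Fintype G] [Fintype H] in
theorem ne_a : (a : G) ≠ 1 := fun e => invol_basic.1.2.1 (S.ha ▸ (M.psi_eq_one_iff a).2 e)

omit [Fintype G] [Fintype H] in
theorem ne_b : (b : G) ≠ 1 := fun e => invol_basic.2.2.1 (S.hb ▸ (M.psi_eq_one_iff b).2 e)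

omit [Fintype G] [Fintype H] in
theorem not_mem_powSet {g : G} (h2 : g * g = 1) : g ∉ powSet H J := by
  rintro ⟨-, ⟨-, h⟩ | ⟨hJ, h⟩⟩
  · exact h (by rw [show (4 : ℕ) = 2 * 2 from rfl, pow_mul, sq g, h2, one_pow])
  · have e : g ^ 3 = g := by rw [pow_succ, sq, h2, one_mul]
    rw [e] at hJ h
    have h3 : g ^ 3 = 1 := congrArg Subtype.val ((M.pow_eq_one_iff ⟨g, S.data.le hJ⟩ 3).1
      (jSet_cube.1 _ (Model.jData_psi S.data hJ)))
    exact h (e ▸ h3)

omit [Fintype H] in
theorem conj_cases (h : H) :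
    (IsConj (a : G) h → M.psi h ∈ clA) ∧ (IsConj (b : G) h → M.psi h ∈ clB) ∧
      (M.psi h ∈ clA → IsConj (a : G) h) ∧ (M.psi h ∈ clB → IsConj (b : G) h) := by
  classical
  have hmk : ∀ (s : H) (γ : W), γ ∈ kSet → γ * M.psi s = M.psi h * γ → IsConj (s : G) h := by
    intro s γ hγ e
    obtain ⟨c, rfl⟩ := (M.range γ).1 hγ
    rw [← map_mul, ← map_mul] at e
    exact isConj_iff.2 ⟨c, mul_inv_eq_iff_eq_mul.2 (congrArg Subtype.val (M.inj e))⟩
  have hA : M.psi h ∈ clA → IsConj (a : G) h := fun hh => by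
    obtain ⟨h1, h2, h3, h4⟩ := Finset.mem_filter.1 hh
    obtain ⟨γ, hγ, e⟩ := (invol_cases _ h1 h3 h4).1 h2
    exact hmk a γ hγ (by rw [S.ha]; exact e)
  have hB : M.psi h ∈ clB → IsConj (b : G) h := fun hh => by
    obtain ⟨h1, h2, h3⟩ := Finset.mem_filter.1 hh
    obtain ⟨γ, hγ, e⟩ := (invol_cases _ h1 (fun e => h2 (by rw [e]; rfl)) h3).2 h2
    exact hmk b γ hγ (by rw [S.hb]; exact e)
  have hinv : ∀ s : G, s * s = 1 → s ≠ 1 → IsConj s h → M.psi h ≠ 1 ∧ M.psi h * M.psi h = 1 := by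
    intro s s2 s1 hc
    refine ⟨fun e => Higman3.Model.ne_one_of_isConj s1 hc ((M.psi_eq_one_iff h).1 e), ?_⟩
    rw [← map_mul, show h * h = 1 from Subtype.ext (Higman3.Model.sq_eq_one_of_isConj s2 hc),
      map_one]
  have hne : ¬IsConj (a : G) b := Model.not_conj S.data S.ha S.hb
  refine ⟨fun hc => ?_, fun hc => ?_, hA, hB⟩
  · obtain ⟨n1, n2⟩ := hinv _ S.sq_a S.ne_a hc
    refine Finset.mem_filter.2 ⟨M.mem h, ?_, n1, n2⟩
    by_contra hr
    exact hne (hc.trans (hB (Finset.mem_filter.2 ⟨M.mem h, hr, n2⟩)).symm)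
  · obtain ⟨n1, n2⟩ := hinv _ S.sq_b S.ne_b hc
    refine Finset.mem_filter.2 ⟨M.mem h, fun hr => ?_, n2⟩
    exact hne ((hA (Finset.mem_filter.2 ⟨M.mem h, hr, n1, n2⟩)).trans hc.symm)

theorem pair_identity {f : W → ℤ√3} (hf : IsGeneralizedCharacter H (M.lift f))
    (hfs : ∀ w ∈ kSet, ¬InX w → f w = 0) {c : ℤ} {u₁ u₂ u₃ : Signed (IrrCharacter G)}
    (hr : Rep3 (Chars.trivialIrr G) (coeff hf) c u₁ u₂ u₃) {s t : G} (hs : s * s = 1)
    (ht : t * t = 1) {P Q : Finset W} (hP : P ⊆ kSet) (hQ : Q ⊆ kSet)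
    (hsP : ∀ h : H, M.psi h ∈ P ↔ IsConj s (h : G)) (htQ : ∀ h : H, M.psi h ∈ Q ↔ IsConj t (h : G))
    {R : ℚ} (hR : toC (∑ u ∈ P, ∑ v ∈ Q, f (u * v)) = (R : ℂ)) :
    (c : ℚ) * ((conjClass s).card * (conjClass t).card) +
      ((u₁.2 : ℚ) * ((conjClass s).card * intVal u₁.1 s * ((conjClass t).card * intVal u₁.1 t) /
          irrDeg u₁.1) +
        (u₂.2 : ℚ) * ((conjClass s).card * intVal u₂.1 s * ((conjClass t).card * intVal u₂.1 t) /
          irrDeg u₂.1) +
        (u₃.2 : ℚ) * ((conjClass s).card * intVal u₃.1 s * ((conjClass t).card * intVal u₃.1 t) /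
          irrDeg u₃.1)) = (H.index : ℚ) * R := by
  classical
  have hcl : ∀ s : G, ∀ u ∈ conjClass s, ∀ x : G, x * u * x⁻¹ ∈ conjClass s := fun s u hu x =>
    mem_conjClass.2 ((mem_conjClass.1 hu).trans (isConj_iff.2 ⟨x, rfl⟩))
  have hsum : ∀ (χ : IrrCharacter G) (s : G), s * s = 1 →
      ∑ u ∈ conjClass s, (χ : G → ℂ) u = ((conjClass s).card : ℂ) * (intVal χ s : ℂ) := by
    intro χ s hs
    rw [← intVal_spec χ hs, Finset.sum_congr rfl (g := fun _ => (χ : G → ℂ) s) fun u hu =>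
      Chars.isClassFunction_apply_eq (Chars.irr_isClassFunction χ) (mem_conjClass.1 hu),
      Finset.sum_const, nsmul_eq_mul]
  let KH : Finset H := Finset.univ.filter fun h => M.psi h ∈ P
  let LH : Finset H := Finset.univ.filter fun h => M.psi h ∈ Q
  have h := Higman3.sum_coeff_two (Model.controlled S.data) hf (Model.supported S.data hfs)
    (conjClass s) (conjClass t) (hcl s) (hcl t)
    (fun u hu => Higman3.Model.sq_eq_one_of_isConj hs (mem_conjClass.1 hu))
    (fun u hu => Higman3.Model.sq_eq_one_of_isConj ht (mem_conjClass.1 hu)) KH LH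
    (fun h => by simp [KH, hsP, mem_conjClass]) (fun h => by simp [LH, htQ, mem_conjClass])
  have himg : ∀ (P : Finset W), P ⊆ kSet →
      (Finset.univ.filter fun h : H => M.psi h ∈ P).map ⟨M.psi, M.inj⟩ = P := by
    intro P hP
    ext w
    simp only [Finset.mem_map, Finset.mem_filter, Finset.mem_univ, true_and,
      Function.Embedding.coeFn_mk]
    refine ⟨fun ⟨h, hh, e⟩ => e ▸ hh, fun hw => ?_⟩
    obtain ⟨h, rfl⟩ := (M.range w).1 (hP hw)
    exact ⟨h, hw, rfl⟩
  have hpair : ∑ u ∈ KH, ∑ v ∈ LH, M.lift f (u * v) = (R : ℂ) := by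
    rw [← hR, map_sum]
    conv_rhs => rw [← himg P hP, Finset.sum_map]
    refine Finset.sum_congr rfl fun u _ => ?_
    rw [map_sum]
    conv_rhs => rw [← himg Q hQ, Finset.sum_map]
    exact Finset.sum_congr rfl fun v _ => by simp [Model.lift]
  have hv : ∀ w, idot (coeff hf) w = ∑ k, ![c, u₁.2, u₂.2, u₃.2] k *
      w (![Chars.trivialIrr G, u₁.1, u₂.1, u₃.1] k) := fun w => by
    rw [hr.2 w]; simp [Fin.sum_univ_four]; ring
  rw [Higman3.idot_cast hv, hpair] at h
  have hidx : (Nat.card G : ℂ) / (Nat.card H : ℂ) = (H.index : ℂ) := by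
    rw [div_eq_iff (Nat.cast_ne_zero.2 Nat.card_pos.ne'), ← H.card_mul_index]
    push_cast; ring
  simp only [hsum _ s hs, hsum _ t ht, irrDeg_spec, hidx] at h
  simp [Fin.sum_univ_four, irrDeg_trivial, intVal_trivial hs, intVal_trivial ht] at h
  apply Rat.cast_injective (α := ℂ)
  push_cast
  rw [← h]
  ring

omit [Fintype H] S in
/-- The datum of a signed unit. -/
theorem signed_sq {e : ℤ} (he : e * e = 1) (x y d : ℚ) :
    (e : ℚ) * x * ((e : ℚ) * y) / ((e : ℚ) * d) = (e : ℚ) * (x * y / d) := by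
  rcases Int.eq_one_or_neg_one_of_mul_eq_one he with rfl | rfl <;> simp [div_neg, neg_div]

end Setting

/-- The datum of a signed unit. -/
noncomputable def dat (a b : H) (u : Signed (IrrCharacter G)) : Datum where
  X := (u.2 : ℚ) * irrDeg u.1
  U := (u.2 : ℚ) * (((conjClass (a : G)).card : ℚ) * intVal u.1 (a : G) / 27)
  V := (u.2 : ℚ) * (((conjClass (b : G)).card : ℚ) * intVal u.1 (b : G) / 54)

omit [Fintype H] in
theorem dat_sneg (a b : H) (u : Signed (IrrCharacter G)) : dat a b (sneg u) = (dat a b u).neg := by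
  simp [dat, sneg, Datum.neg]

omit [Fintype H] in
theorem dat_X_ne (a b : H) {u : Signed (IrrCharacter G)} (hu : u.2 * u.2 = 1) :
    (dat a b u).X ≠ 0 :=
  mul_ne_zero (Int.cast_ne_zero.2 fun h => by simp [h] at hu)
    (Int.cast_ne_zero.2 (irrDeg_ne_zero u.1))

/-- The trivial datum. -/
noncomputable def datOne (a b : H) : Datum := dat a b (Chars.trivialIrr G, 1)

namespace Setting

variable {M : Model H} {a b : H} (S : Setting M J a b)

include S

omit [Fintype H] in
theorem datOne_eq : (datOne a b).X = 1 ∧ (datOne a b).U = ((conjClass (a : G)).card : ℚ) / 27 ∧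
    (datOne a b).V = ((conjClass (b : G)).card : ℚ) / 54 := by
  simp [datOne, dat, irrDeg_trivial, intVal_trivial S.sq_a, intVal_trivial S.sq_b]

theorem sums_zero {f : W → ℤ√3} (hf : IsGeneralizedCharacter H (M.lift f))
    (hfs : ∀ w ∈ kSet, ¬InX w → f w = 0) {s : G} (hs : s * s = 1) :
    idot (coeff (G := G) hf) (fun χ => intVal χ s) = 0 := by
  have h := Higman3.indFun_apply_eq_sum (G := G) hf s
  rw [Higman3.indFun_eq_zero (Model.supported S.data hfs) fun x => S.not_mem_powSet (by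
    calc x⁻¹ * s * x * (x⁻¹ * s * x) = x⁻¹ * (s * s) * x := by group
      _ = 1 := by rw [hs]; group)] at h
  simp only [intVal_spec _ hs] at h
  have : ((idot (coeff (G := G) hf) (fun χ => intVal χ s) : ℤ) : ℂ) = 0 := by
    simp only [idot, Int.cast_sum, Int.cast_mul]; exact h.symm
  exact_mod_cast this

theorem eqs {f : W → ℤ√3} (hf : IsGeneralizedCharacter H (M.lift f))
    (hfs : ∀ w ∈ kSet, ¬InX w → f w = 0) {c : ℤ} {u₁ u₂ u₃ : Signed (IrrCharacter G)}
    (hr : Rep3 (Chars.trivialIrr G) (coeff hf) c u₁ u₂ u₃) {Raa Rab Rbb : ℚ}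
    (haa : toC (∑ u ∈ clA, ∑ v ∈ clA, f (u * v)) = ((729 * Raa : ℚ) : ℂ))
    (hab : toC (∑ u ∈ clA, ∑ v ∈ clB, f (u * v)) = ((1458 * Rab : ℚ) : ℂ))
    (hbb : toC (∑ u ∈ clB, ∑ v ∈ clB, f (u * v)) = ((2916 * Rbb : ℚ) : ℂ)) :
    Eqs (H.index : ℚ) (datOne a b) (c : ℚ) (dat a b u₁) (dat a b u₂) (dat a b u₃) Raa Rab Rbb := by
  have hA : ∀ h : H, M.psi h ∈ clA ↔ IsConj (a : G) (h : G) := fun h =>
    ⟨(S.conj_cases h).2.2.1, (S.conj_cases h).1⟩
  have hB : ∀ h : H, M.psi h ∈ clB ↔ IsConj (b : G) (h : G) := fun h =>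
    ⟨(S.conj_cases h).2.2.2, (S.conj_cases h).2.1⟩
  have sA : clA ⊆ kSet := Finset.filter_subset _ _
  have sB : clB ⊆ kSet := Finset.filter_subset _ _
  have paa := S.pair_identity hf hfs hr S.sq_a S.sq_a sA sA hA hA haa
  have pab := S.pair_identity hf hfs hr S.sq_a S.sq_b sA sB hA hB hab
  have pbb := S.pair_identity hf hfs hr S.sq_b S.sq_b sB sB hB hB hbb
  have zX := Higman3.idot_coeff_deg (G := G) one_not_mem_powSet hf (Model.supported S.data hfs)
  have zU := S.sums_zero hf hfs S.sq_a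
  have zV := S.sums_zero hf hfs S.sq_b
  rw [hr.2] at zX zU zV
  simp only [irrDeg_trivial, intVal_trivial S.sq_a, intVal_trivial S.sq_b] at zX zU zV
  replace zX := congrArg (Int.cast : ℤ → ℚ) zX
  replace zU := congrArg (Int.cast : ℤ → ℚ) zU
  replace zV := congrArg (Int.cast : ℤ → ℚ) zV
  push_cast at zX zU zV
  obtain ⟨oX, oU, oV⟩ := S.datOne_eq
  obtain ⟨⟨e1, e2, e3⟩, -⟩ := hr
  constructor <;> simp only [oX, oU, oV, sq, dat, signed_sq e1, signed_sq e2, signed_sq e3, div_one]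
  · linear_combination zX
  · linear_combination ((conjClass (a : G)).card : ℚ) / 27 * zU
  · linear_combination ((conjClass (b : G)).card : ℚ) / 54 * zV
  · linear_combination paa / 729
  · linear_combination pab / 1458
  · linear_combination pbb / 2916

theorem eqs2 {u₁ u₂ : Signed (IrrCharacter G)} (hr : Rep2 M.cP u₁ u₂) :
    Eqs2 (dat a b u₁) (dat a b u₂) := by
  have hfs : ∀ w ∈ kSet, ¬InX w → gP w = 0 := fun w hw hx => (vanish w hw hx).2.2.2.2
  have zX := Higman3.idot_coeff_deg (G := G) one_not_mem_powSet (M.vc_pull vc_gP)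
    (Model.supported S.data hfs)
  have zU := S.sums_zero (M.vc_pull vc_gP) hfs S.sq_a
  have zV := S.sums_zero (M.vc_pull vc_gP) hfs S.sq_b
  have hr' : ∀ w, idot (coeff (M.vc_pull vc_gP)) w = u₁.2 * w u₁.1 + u₂.2 * w u₂.1 := hr.2
  rw [hr'] at zX zU zV
  replace zX := congrArg (Int.cast : ℤ → ℚ) zX
  replace zU := congrArg (Int.cast : ℤ → ℚ) zU
  replace zV := congrArg (Int.cast : ℤ → ℚ) zV
  push_cast at zX zU zV
  constructor <;> simp only [dat]
  · linear_combination zX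
  · linear_combination ((conjClass (a : G)).card : ℚ) / 27 * zU
  · linear_combination ((conjClass (b : G)).card : ℚ) / 54 * zV

/-- The shared units and their equations. -/
theorem exists_base : ∃ ua ub ut uψ uw ur : Signed (IrrCharacter G),
    (ua.2 * ua.2 = 1 ∧ M.cC ua.1 = ua.2) ∧ (uψ.2 * uψ.2 = 1 ∧ M.cD uψ.1 = uψ.2) ∧
    Base (H.index : ℚ) (datOne a b) (dat a b ua) (dat a b ub) (dat a b ut) (dat a b uψ)
      (dat a b uw) (dat a b ur) ∧
    Shapes (H.index : ℚ) (datOne a b) (dat a b ua) (dat a b ub) (dat a b ut) (dat a b uψ)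
      (dat a b uw) (dat a b ur) := by
  obtain ⟨ua, ub, ut, uψ, uw, ur, hC, hD, hA, ⟨eC, eD⟩, hsh⟩ := (Model.gram S.data).exists_shape
  have vA := fun w hw hx => (vanish w hw hx).1
  have vA' := fun w hw hx => (vanish w hw hx).2.1
  have vC := fun w hw hx => (vanish w hw hx).2.2.1
  have vD := fun w hw hx => (vanish w hw hx).2.2.2.1
  obtain ⟨a1, a2, a3, a4⟩ := pairs_aa
  obtain ⟨b1, b2, b3, b4⟩ := pairs_ab
  obtain ⟨c1, c2, c3, c4⟩ := pairs_bb
  have z0 : ∀ {S : ℤ√3} {n : ℚ}, S = 0 → toC S = ((n * 0 : ℚ) : ℂ) := fun e => by simp [e]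
  have EA := fun u₁ u₂ u₃ (hr : Rep3 (Chars.trivialIrr G) M.cA 1 u₁ u₂ u₃) =>
    S.eqs (M.vc_pull vc_gA) vA hr (Raa := 8 / 3) (Rab := 4 / 3) (Rbb := 4 / 3)
      (pairVal (m := 3) (n := 8 * 729) (by norm_num) (by norm_num at a1 ⊢; exact a1) (by norm_num))
      (pairVal (m := 3) (n := 4 * 1458) (by norm_num) (by norm_num at b1 ⊢; exact b1) (by norm_num))
      (pairVal (m := 3) (n := 4 * 2916) (by norm_num) (by norm_num at c1 ⊢; exact c1) (by norm_num))
  have EA' := fun u₁ u₂ u₃ (hr : Rep3 (Chars.trivialIrr G) M.cA' 1 u₁ u₂ u₃) =>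
    S.eqs (M.vc_pull vc_gA') vA' hr (Raa := 4 / 3) (Rab := 2 / 3) (Rbb := 1)
      (pairVal (m := 3) (n := 4 * 729) (by norm_num) (by norm_num at a2 ⊢; exact a2) (by norm_num))
      (pairVal (m := 3) (n := 2 * 1458) (by norm_num) (by norm_num at b2 ⊢; exact b2) (by norm_num))
      (pairVal (m := 1) (n := 2916) (by norm_num) (by norm_num at c2 ⊢; exact c2) (by norm_num))
  have EC := fun u₁ u₂ u₃ (hr : Rep3 (Chars.trivialIrr G) M.cC 0 u₁ u₂ u₃) =>
    S.eqs (M.vc_pull vc_gC) vC hr (Raa := 0) (Rab := 0) (Rbb := 2 / 3) (z0 a3) (z0 b3)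
      (pairVal (m := 3) (n := 2 * 2916) (by norm_num) (by norm_num at c3 ⊢; exact c3) (by norm_num))
  have ED := fun u₁ u₂ u₃ (hr : Rep3 (Chars.trivialIrr G) M.cD 0 u₁ u₂ u₃) =>
    S.eqs (M.vc_pull vc_gD) vD hr (Raa := 8 / 3) (Rab := 0) (Rbb := 0)
      (pairVal (m := 3) (n := 8 * 729) (by norm_num) (by norm_num at a4 ⊢; exact a4) (by norm_num)) (z0 b4)
      (z0 c4)
  simp only [Int.cast_one, Int.cast_zero] at EA EA' EC ED
  obtain ⟨⟨sa, sb, st⟩, -⟩ := id hC
  obtain ⟨⟨-, sψ, sw⟩, -⟩ := id hD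
  obtain ⟨⟨-, -, sr⟩, -⟩ := id hA
  simp only [sneg, neg_mul_neg] at st sw
  refine ⟨ua, ub, ut, uψ, uw, ur, ⟨sa, eC⟩, ⟨sψ, eD⟩, ?_, ?_⟩
  · exact {
      pos := Nat.cast_pos.2 (Nat.pos_of_ne_zero Subgroup.index_ne_zero_of_finite)
      o_X := S.datOne_eq.1
      a_ne := dat_X_ne a b sa
      b_ne := dat_X_ne a b sb
      t_ne := dat_X_ne a b st
      ψ_ne := dat_X_ne a b sψ
      w_ne := dat_X_ne a b sw
      r_ne := dat_X_ne a b sr
      C := dat_sneg a b ut ▸ EC _ _ _ hC
      D := dat_sneg a b uw ▸ ED _ _ _ hD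
      A := EA _ _ _ hA }
  · rcases hsh with ⟨e, h⟩ | h | h | ⟨e, h⟩ | h | h | ⟨e, f, h, h'⟩
    · exact .generic _ (EA' _ _ _ h) (dat_X_ne a b h.1.2.2)
    · exact .four (dat_sneg a b uψ ▸ EA' _ _ _ h)
    · exact .three (dat_sneg a b ur ▸ EA' _ _ _ h)
    · exact .two _ (dat_sneg a b uψ ▸ EA' _ _ _ h) (dat_X_ne a b h.1.2.2)
    · exact .pa (dat_sneg a b uw ▸ dat_sneg a b ua ▸ S.eqs2 h)
    · exact .pb (dat_sneg a b ub ▸ S.eqs2 h)
    · exact .one _ _ (dat_sneg a b ut ▸ EA' _ _ _ h) (S.eqs2 h') (dat_X_ne a b h.1.2.2)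

end Setting

end Cfsg.Agent.Lib.Higman4
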