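import Mathlib
import Cfsg.Agent.Lib.Higman4.Functionals

/-!
A subgroup isomorphic to the even monomial triples with strongly closed subgroup of order 27 is
everything: the shared unit of `D` and `A` gives a normal subgroup meeting it in the base.
-/

set_option autoImplicit false

namespace Cfsg.Agent.Lib.Higman4

open Cfsg Cfsg.Agent.Lib
open scoped ComplexConjugate
open Cfsg.Agent.Lib.Higman3 (coeff irrDeg irrDeg_spec irrDeg_nonneg intVal intVal_spec)

variable {G : Type*} [Group G] [Fintype G] {H J : Subgroup G} [Fintype H]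

namespace Model

variable (M : Model H)

omit [Fintype G] in
theorem classInner_sign_const {F : W → ℤ√3} (h0 : ∑ w ∈ kSet, F w = 0)
    (h1 : ∑ w ∈ kSet.filter (fun w => sgn w = 1), F w = 0) (g : H → ℂ)
    (x y : ℂ) (hg : ∀ h : H, g h = if sgn (M.psi h) = 1 then x else y) :
    classInner (M.lift F) g = 0 := by
  have h2 : ∑ w ∈ kSet.filter (fun w => ¬sgn w = 1), F w = 0 := by
    have := Finset.sum_filter_add_sum_filter_not kSet
      (fun w : W => sgn w = 1) F
    rwa [h0, h1, zero_add] at this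
  simp only [classInner, Model.lift, hg]
  rw [M.sum_eq (fun w => toC (F w) * conj (if sgn w = 1 then x else y))]
  simp only [apply_ite conj, mul_ite, Finset.sum_ite, ← Finset.sum_mul, ← map_sum, h1, h2,
    map_zero, zero_mul, add_zero, mul_zero]

omit [Fintype G] [Fintype H] in
theorem hom_sign {A : Type*} [CommGroup A] (f : H →* A) :
    ∃ y : A, ∀ h : H, f h = if sgn (M.psi h) = 1 then 1 else y := by
  let P : Subgroup W := f.ker.map M.psi
  have hP : ∀ x : H, f x = 1 → M.psi x ∈ P := fun x hx => ⟨x, hx, rfl⟩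
  have hP' : ∀ x : H, M.psi x ∈ P → f x = 1 := fun x ⟨y, hy, e⟩ => M.inj e ▸ hy
  obtain ⟨m1, m2, m3, m4⟩ := gens_even
  have hk : ∀ {w : W}, Even' w → ∃ h, M.psi h = w := fun {w} hw =>
    (M.range w).1 (Finset.mem_filter.2 ⟨Finset.mem_univ _, hw⟩)
  obtain ⟨a, ha⟩ := hk m1
  obtain ⟨c, hc⟩ := hk m2
  obtain ⟨d, hd⟩ := hk m3
  obtain ⟨s, hs⟩ := hk m4
  obtain ⟨k1, k2, k3, k4⟩ := commutators
  have fa : f a = 1 := by
    rw [show a = d * a * d⁻¹ * a⁻¹ from M.inj (by simp only [map_mul, map_inv, ha, hd]; exact k1)]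
    simp [mul_comm]
  have fd : f d = 1 := by
    rw [show d = c * (c * d * c⁻¹) * c⁻¹ * (c * d * c⁻¹)⁻¹ from
      M.inj (by simp only [map_mul, map_inv, hc, hd]; exact k2)]
    simp only [map_mul, map_inv]
    rw [mul_comm (f c) (f c * f d * (f c)⁻¹)]
    group
  obtain ⟨eB, eC⟩ := base_gens
  have hbase : ∀ w ∈ kSet, pN w = 0 → w ∈ P := by
    intro w hw hw1
    refine mem_base (ha ▸ hP a fa) (hd ▸ hP d fd) ?_ ?_ ?_ hw hw1
    · rw [eB, ← hc, ← ha, ← map_inv, ← map_mul, ← map_mul]; exact hP _ (by simp [fa])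
    · rw [eC, ← hc, ← ha, ← map_inv, ← map_mul, ← map_mul]; exact hP _ (by simp [fa])
    · rw [← hc, ← hd, ← map_inv, ← map_mul, ← map_mul]; exact hP _ (by simp [fd])
  have fc : f c = 1 := by
    have e1 : f (s * c * s⁻¹ * c) = 1 := hP' _ (hbase _ (M.mem _) (by
      simp only [map_mul, map_inv, hs, hc]; exact k3))
    have e2 : f c ^ 3 = 1 := by
      rw [← map_pow, (M.pow_eq_one_iff c 3).1 (by rw [hc]; exact k4), map_one]
    have e3 : f c ^ 2 = 1 := by
      rw [← e1]; simp [sq, mul_comm]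
    calc f c = f c ^ 3 * (f c ^ 2)⁻¹ := by group
      _ = 1 := by rw [e2, e3]; simp
  refine ⟨(f s)⁻¹, fun h => ?_⟩
  have hm := mem_of_base_cyc hbase (hc ▸ hP c fc) (M.mem h)
  split
  · next e => exact hP' h (hm.1 e)
  · next e =>
    have := hm.2 e
    rw [← hs, ← map_mul] at this
    exact eq_inv_of_mul_eq_one_left (by rw [← map_mul]; exact hP' _ this)

end Model

namespace Setting

variable {M : Model H} {a b : H} (S : Setting M J a b)

include S

omit [Fintype G] [Fintype H] in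
/-- A normal subgroup containing the first involution meets `H` at least in the base. -/
theorem base_le {N : Subgroup G} [N.Normal] (ha : (a : G) ∈ N) :
    ∀ h : H, pN (M.psi h) = 0 → (h : G) ∈ N := by
  let P : Subgroup W := (N.subgroupOf H).map M.psi
  have hmem : ∀ x : H, M.psi x ∈ P → (x : G) ∈ N := fun x ⟨y, hy, e⟩ => by
    rw [← M.inj e]; exact Subgroup.mem_subgroupOf.1 hy
  have hP : ∀ x : H, (x : G) ∈ N → M.psi x ∈ P := fun x hx => ⟨x, Subgroup.mem_subgroupOf.2 hx, rfl⟩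
  obtain ⟨m1, m2, -, -⟩ := gens_even
  obtain ⟨x, hx⟩ := (M.range gA0).1 (Finset.mem_filter.2 ⟨Finset.mem_univ _, m1⟩)
  obtain ⟨c, hc⟩ := (M.range cyc).1 (Finset.mem_filter.2 ⟨Finset.mem_univ _, m2⟩)
  have hN : Subgroup.Normal N := inferInstance
  have hxN : (x : G) ∈ N := by
    have e : x = a * x * a⁻¹ * x⁻¹ := M.inj (by
      simp only [map_mul, map_inv, S.ha, hx]; exact commutators.1)
    rw [e]
    show (a : G) * x * (a : G)⁻¹ * (x : G)⁻¹ ∈ N
    have := N.mul_mem ha (hN.conj_mem _ (N.inv_mem ha) x)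
    simpa [mul_assoc] using this
  obtain ⟨eB, eC⟩ := base_gens
  intro h hr
  refine hmem h (mem_base (hx ▸ hP x hxN) (S.ha ▸ hP a ha) ?_ ?_ ?_ (M.mem h) hr)
  · rw [eB, ← hc, ← hx, ← map_inv, ← map_mul, ← map_mul]
    exact hP _ (by simpa using hN.conj_mem _ hxN c)
  · rw [eC, ← hc, ← hx, ← map_inv, ← map_mul, ← map_mul]
    exact hP _ (by simpa using hN.conj_mem _ hxN (c⁻¹ : G))
  · rw [← hc, ← S.ha, ← map_inv, ← map_mul, ← map_mul]
    exact hP _ (by simpa using hN.conj_mem _ ha (c⁻¹ : G))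

/-- A normal subgroup meeting `H` exactly in the base. -/
theorem exists_normal : ∃ N : Subgroup G, N.Normal ∧
    ∀ h : H, (h : G) ∈ N ↔ pN (M.psi h) = 0 := by
  obtain ⟨ua, ub, ut, uψ, uw, ur, ⟨sa, eC⟩, ⟨sψ, eD⟩, hB, hsh⟩ := S.exists_base
  have ha1 : (dat a b ua).X ≠ 1 := by
    intro hX
    have hd : ua.2 * irrDeg ua.1 = 1 := by
      have : ((ua.2 * irrDeg ua.1 : ℤ) : ℚ) = 1 := by push_cast; exact hX
      exact_mod_cast this
    have h0 := irrDeg_nonneg ua.1
    obtain ⟨e1, e2⟩ : ua.2 = 1 ∧ irrDeg ua.1 = 1 := by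
      rcases Int.eq_one_or_neg_one_of_mul_eq_one hd with e | e <;> rw [e] at hd <;> omega
    obtain ⟨φ, hφ⟩ := Chars.exists_hom_of_degree_one (Chars.irr_isCharacter ua.1)
      (by rw [irrDeg_spec, e2, Int.cast_one])
    obtain ⟨y, hy⟩ := M.hom_sign (φ.comp H.subtype)
    have := coeff_eq_classInner (M.vc_pull vc_gC) ua.1
    rw [show coeff (M.vc_pull vc_gC) ua.1 = 1 from eC.trans e1,
      M.classInner_sign_const sums.2.2.1 sign_sums.1 _ 1 (y : ℂ) (fun h => by
        rw [hφ]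
        have := hy h
        simp only [MonoidHom.comp_apply, Subgroup.coe_subtype] at this
        simp only [this]
        split <;> simp)] at this
    simp at this
  obtain ⟨hψX, hψU⟩ := hB.result hsh ⟨ub.2 * irrDeg ub.1, by simp [dat]⟩ ha1
  obtain ⟨-, oU, -⟩ := S.datOne_eq
  have hd : uψ.2 * irrDeg uψ.1 = 2 := by
    have : ((uψ.2 * irrDeg uψ.1 : ℤ) : ℚ) = 2 := by push_cast; exact hψX
    exact_mod_cast this
  obtain ⟨e1, e2⟩ : uψ.2 = 1 ∧ irrDeg uψ.1 = 2 := by
    have h0 := irrDeg_nonneg uψ.1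
    rcases Int.eq_one_or_neg_one_of_mul_eq_one sψ with e | e <;> rw [e] at hd <;> omega
  have hva : intVal uψ.1 (a : G) = 2 := by
    rw [oU] at hψU
    simp only [dat, e1, Int.cast_one, one_mul] at hψU
    have hne : ((conjClass (a : G)).card : ℚ) ≠ 0 :=
      Nat.cast_ne_zero.2 (Finset.card_ne_zero.2 ⟨_, mem_conjClass.2 (IsConj.refl _)⟩)
    have : (intVal uψ.1 (a : G) : ℚ) = 2 := mul_left_cancel₀ hne (by linear_combination 27 * hψU)
    exact_mod_cast this
  obtain ⟨n, ρ, -, hρ⟩ := Chars.irr_exists_rep uψ.1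
  refine ⟨MonoidHom.ker ρ, inferInstance, ?_⟩
  have haN : (a : G) ∈ MonoidHom.ker ρ := by
    rw [MonoidHom.mem_ker, Chars.rep_eq_one_iff, hρ, intVal_spec _ S.sq_a, hva, irrDeg_spec, e2]
  have hbase := S.base_le haN
  intro h
  refine ⟨fun hh => ?_, hbase h⟩
  by_contra hr
  let P : Subgroup W := ((MonoidHom.ker ρ).subgroupOf H).map M.psi
  have hmem : ∀ x : H, M.psi x ∈ P → (x : G) ∈ MonoidHom.ker ρ := fun x ⟨y, hy, e⟩ => by
    rw [← M.inj e]; exact Subgroup.mem_subgroupOf.1 hy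
  have hP : ∀ x : H, (x : G) ∈ MonoidHom.ker ρ → M.psi x ∈ P := fun x hx =>
    ⟨x, Subgroup.mem_subgroupOf.2 hx, rfl⟩
  have hbP : ∀ w ∈ kSet, pN w = 0 → w ∈ P := fun w hw hw1 => by
    obtain ⟨x, rfl⟩ := (M.range w).1 hw
    exact hP x (hbase x hw1)
  obtain ⟨m1, m2, -, m4⟩ := gens_even
  obtain ⟨c, hc⟩ := (M.range cyc).1 (Finset.mem_filter.2 ⟨Finset.mem_univ _, m2⟩)
  obtain ⟨s, hs⟩ := (M.range swapFlip).1 (Finset.mem_filter.2 ⟨Finset.mem_univ _, m4⟩)
  have heven : ∀ x : H, (x : G) ∈ MonoidHom.ker ρ → pN (M.psi x) ≠ 0 →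
      sgn (M.psi x) = 1 → cyc ∈ P := by
    intro x hx hx1 hxs
    rcases (right_cases _ (M.mem x) hx1).1 hxs with e | e
    · have := hbP _ (by rw [← hc, ← map_mul]; exact M.mem _) e
      exact (P.mul_mem_cancel_left (hP x hx)).1 this
    · have := hbP _ (by rw [← hc, ← map_inv, ← map_mul]; exact M.mem _) e
      exact inv_mem_iff.1 ((P.mul_mem_cancel_left (hP x hx)).1 this)
  have hcyc : cyc ∈ P := by
    by_cases hsg : sgn (M.psi h) = 1
    · exact heven h hh hr hsg
    · obtain ⟨h1, h2⟩ := (right_cases _ (M.mem h) hr).2 hsg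
      have e : M.psi (h * c * h⁻¹ * c⁻¹) = M.psi h * cyc * (M.psi h)⁻¹ * cyc⁻¹ := by
        simp only [map_mul, map_inv, hc]
      refine heven (h * c * h⁻¹ * c⁻¹) ?_ (by rw [e]; exact h1) (by rw [e]; exact h2)
      have hN : Subgroup.Normal (MonoidHom.ker ρ) := inferInstance
      have := (MonoidHom.ker ρ).mul_mem hh (hN.conj_mem _ ((MonoidHom.ker ρ).inv_mem hh) c)
      simpa [mul_assoc] using this
  have hval : ∀ x : H, (uψ.1 : G → ℂ) x = if sgn (M.psi x) = 1 then
      (uψ.1 : G → ℂ) 1 else (uψ.1 : G → ℂ) (s : G)⁻¹ := by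
    intro x
    have hm := mem_of_base_cyc hbP hcyc (M.mem x)
    rw [← hρ]
    split
    · next e =>
      have hx := hmem x (hm.1 e)
      rw [MonoidHom.mem_ker] at hx
      simp only [Representation.character, hx, map_one]
    · next e =>
      have := hm.2 e
      rw [← hs, ← map_mul] at this
      have hx := hmem _ this
      rw [MonoidHom.mem_ker, Subgroup.coe_mul, map_mul] at hx
      simp only [Representation.character]
      congr 1
      calc ρ (x : G) = ρ (x : G) * (ρ (s : G) * ρ (s : G)⁻¹) := by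
            rw [← map_mul ρ (s : G), mul_inv_cancel, map_one, mul_one]
        _ = ρ (s : G)⁻¹ := by rw [← mul_assoc, hx, one_mul]
  have := coeff_eq_classInner (M.vc_pull vc_gD) uψ.1
  rw [show coeff (M.vc_pull vc_gD) uψ.1 = 1 from eD.trans e1,
    M.classInner_sign_const sums.2.2.2.1 sign_sums.2 _ _ _ hval] at this
  simp at this

end Setting

namespace Model

variable {M : Model H}

omit [Fintype G] [Fintype H] in
theorem card_J (D : JData M J) : Nat.card J = 27 := by
  rw [← jSet_cube.2, ← Nat.card_eq_finsetCard]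
  refine Nat.card_eq_of_bijective (fun x => ⟨M.psi ⟨x, D.le x.2⟩, jData_psi D x.2⟩) ⟨?_, ?_⟩
  · intro x y e
    exact Subtype.ext (congrArg Subtype.val (M.inj (congrArg Subtype.val e :)) :)
  · rintro ⟨w, hw⟩
    obtain ⟨hw1, hw2⟩ := Finset.mem_filter.1 hw
    obtain ⟨h, rfl⟩ := (M.range w).1 hw1
    exact ⟨⟨h, (D.mem_iff h).2 hw2⟩, rfl⟩

omit [Fintype H] in
theorem eq_top (D : JData M J) : H = ⊤ := by
  classical
  haveI : Fintype H := Fintype.ofFinite H
  obtain ⟨⟨ea, -, -, -⟩, ⟨eb, -, -, -⟩⟩ := invol_basic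
  obtain ⟨a, ha⟩ := (M.range flip01).1 (Finset.mem_filter.2 ⟨Finset.mem_univ _, ea⟩)
  obtain ⟨b, hb⟩ := (M.range swapFlip).1 (Finset.mem_filter.2 ⟨Finset.mem_univ _, eb⟩)
  obtain ⟨N, hN, hNH⟩ := Setting.exists_normal (⟨D, ha, hb⟩ : Setting M J a b)
  have hJN : J ≤ N := fun x hx =>
    (hNH ⟨x, D.le hx⟩).2 (Finset.mem_filter.1 (jData_psi D hx)).2.1
  let K : Subgroup N := H.subgroupOf N
  have hr : ∀ x : K, pN (M.psi ⟨((x : N) : G), x.2⟩) = 0 := fun x => (hNH _).1 (x : N).2
  let q : K →* Higman3.Tri :=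
    { toFun := fun x => (dec (M.psi ⟨((x : N) : G), x.2⟩)).left
      map_one' := by
        show (dec (M.psi 1)).left = 1
        rw [map_one, dec_one]; rfl
      map_mul' := fun x y => by
        show (dec (M.psi (⟨((x : N) : G), x.2⟩ * ⟨((y : N) : G), y.2⟩))).left = _
        have hx : (dec (M.psi ⟨((x : N) : G), x.2⟩)).right = 1 := (right_eq_one _).2 (hr x)
        rw [map_mul, dec_mul, SemidirectProduct.mul_left, hx]
        simp }
  have hrange : ∀ σ, σ ∈ Higman3.evenSet ↔ ∃ x, q x = σ := by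
    intro σ
    constructor
    · intro hσ
      have hl : (ofPair ⟨σ, 1⟩).left = σ := congrArg SemidirectProduct.left (dec_ofPair _)
      have hrt : (ofPair ⟨σ, 1⟩).right = 1 := congrArg SemidirectProduct.right (dec_ofPair _)
      have he : ofPair ⟨σ, 1⟩ ∈ kSet := by
        have e0 := sg_left 0 (ofPair ⟨σ, 1⟩)
        have e1 := sg_left 1 (ofPair ⟨σ, 1⟩)
        have e2 := sg_left 2 (ofPair ⟨σ, 1⟩)
        have e3 := sign_right (ofPair ⟨σ, 1⟩)
        rw [hl] at e0 e1 e2
        rw [hrt, map_one, Units.val_one] at e3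
        rw [mem_kSet, Even', ← e3, mul_one]
        rw [Higman3.mem_evenSet, e0, e1, e2] at hσ
        exact hσ
      obtain ⟨h, hh⟩ := (M.range _).1 he
      refine ⟨⟨⟨h, (hNH h).2 (by rw [hh]; exact (right_eq_one _).1 hrt)⟩, h.2⟩, ?_⟩
      show (dec (M.psi ⟨(h : G), h.2⟩)).left = σ
      rw [show (⟨(h : G), h.2⟩ : H) = h from rfl, hh]
      exact hl
    · rintro ⟨x, rfl⟩
      exact left_even (M.mem _) (hr x)
  have hinj : Function.Injective q := fun x y e => by
    have := M.inj (dec_injective (SemidirectProduct.ext e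
      (((right_eq_one _).2 (hr x)).trans ((right_eq_one _).2 (hr y)).symm)))
    exact Subtype.ext (Subtype.ext (congrArg Subtype.val this :))
  let M3 : Higman3.Model K := ⟨q, hinj, hrange⟩
  have htop : K = ⊤ := by
    refine M3.eq_top (T := J.subgroupOf N) (fun x hx => D.le hx)
      (by rw [Nat.card_congr (Subgroup.subgroupOfEquivOfLe hJN).toEquiv]; exact card_J D) ?_ ?_
    · apply le_antisymm
      · intro x hx
        show (x : G) ∈ H
        rw [← normalizer_eq D]
        refine Subgroup.mem_normalizer_fintype fun t ht => ?_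
        exact Subgroup.mem_subgroupOf.1 ((Subgroup.mem_normalizer_iff.1 hx ⟨t, hJN ht⟩).1
          (Subgroup.mem_subgroupOf.2 ht))
      · intro x hx
        have hx' : (x : G) ∈ Subgroup.normalizer (J : Set G) := by rw [normalizer_eq D]; exact hx
        exact Subgroup.mem_normalizer_iff.2 fun t => Subgroup.mem_normalizer_iff.1 hx' t
    · intro t ht ht1 x hx
      exact D.cent _ ht (fun e => ht1 (Subtype.ext e)) (Subgroup.mem_centralizer_singleton_iff.2
        (congrArg Subtype.val (Subgroup.mem_centralizer_singleton_iff.1 hx) :))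
  have hle : N ≤ H := Subgroup.subgroupOf_eq_top.1 htop
  rw [eq_top_iff]
  intro g _
  rw [← normalizer_eq D]
  exact Subgroup.mem_normalizer_fintype fun t ht =>
    D.closed t ht g (hle (hN.conj_mem t (hJN ht) g))

end Model

end Cfsg.Agent.Lib.Higman4
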